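import Cfsg.Agent.Lib.CosetEnum.LyP.Dce.Deriv

/-! The relations used in the enumeration (generated by scripts/ly/gen40.py) -/

set_option autoImplicit false
set_option maxRecDepth 100000
set_option Elab.async false

namespace Cfsg.Agent.Lib.CosetEnum.LyP.Dce

open Cfsg.Agent.Lib.CosetEnum Cfsg.Agent.Lib.CosetEnum.LyP Cfsg.Agent.Lib.ExactCover

/-- The generators of `K` and their conjugates by `z`. -/
def kData : KData where
  kGen := [[4], [1, 4, 0], [3, 4, 2], [2, 4, 3], [5, 1, 5, 0, 4, 1, 4, 0], [0], [2, 0, 3], [2, 2, 0, 3, 3]]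
  thGen := [[1, 3, 1, 2, 5, 3, 0, 5, 2, 0], [3, 3, 0, 4, 1, 2, 4, 2], [1, 3, 1, 4, 0, 2, 0], [3, 1, 2, 4, 3, 0, 2], [2, 2, 1, 3, 4, 2, 0, 4, 3, 3, 5], [1, 1, 1], [2, 1, 3, 1, 1], [0, 2, 2, 0, 3, 3, 1]]

/-- The inverse of `u = a²`. -/
def uInv : List ℕ := [1, 1]

/-- The word of `a4`. -/
def a4W : List ℕ := [3, 3, 0, 2, 2]

/-- The word of `u`. -/
def uW : List ℕ := [0, 0]

/-- The word of `x129`. -/
def x129W : List ℕ := [7, 3]

/-- The word of `x23`. -/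
def x23W : List ℕ := [6]

/-- The word of `x24`. -/
def x24W : List ℕ := [7]

/-- The word of `x25`. -/
def x25W : List ℕ := [2, 2, 1, 3, 1, 2, 2, 5, 0, 4, 1, 5, 6, 5, 2, 2, 1, 4, 2]

/-- The word of `x29`. -/
def x29W : List ℕ := [0, 2, 1, 2, 2, 1, 2, 2, 5, 0, 4, 2, 4, 3, 6, 4, 3, 3, 6, 4, 2, 4]

/-- The word of `x364`. -/
def x364W : List ℕ := [1, 6, 3, 5, 1, 2, 5, 7, 2, 5, 3, 1, 5, 0, 3, 0, 2, 0, 3]

/-- The word of `x365`. -/
def x365W : List ℕ := [0, 3, 3, 1, 4, 2, 5, 2, 1, 5, 5, 6, 4, 0, 4, 1, 4, 3, 7]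

/-- The word of `x366`. -/
def x366W : List ℕ := [2, 0, 3, 1, 3, 3, 1, 3, 4, 2, 2, 4, 2, 6, 4, 3, 3, 6, 4, 2, 4]

/-- The word of `x367`. -/
def x367W : List ℕ := [5, 3, 5, 7, 2, 2, 5, 7, 3, 5, 3, 3, 5, 2, 0, 2, 2, 0, 2, 1, 3]

/-- The word of `x368`. -/
def x368W : List ℕ := [1, 5, 7, 0, 5, 3, 0, 5, 7, 1, 5, 0, 4, 3, 3, 5, 3, 1, 3, 3]

/-- The word of `x369`. -/
def x369W : List ℕ := [1, 5, 7, 2, 1, 3, 5, 7, 2, 1, 3, 5, 3, 0, 3, 3, 0, 3]

/-- The word of `x370`. -/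
def x370W : List ℕ := [7, 0, 4, 2, 4, 1, 5, 7, 0, 3, 1, 4, 1, 3, 3, 1, 2, 1]

/-- The word of `x371`. -/
def x371W : List ℕ := [5, 1, 4, 2, 5, 7, 4, 1, 4, 0, 4, 3, 1, 3, 1, 2]

/-- The word of `x47`. -/
def x47W : List ℕ := [5, 7, 1, 5, 1, 2, 5, 7]

/-- The word of `x96`. -/
def x96W : List ℕ := [2, 6]

/-- The relations 81-86 with positive `z`. -/
def basePats : List (List (Option (List ℕ))) :=
  [[none, none, some uInv],
   [some a4W, none, some a4W, none, some a4W, none, some uW],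
   [some x47W, none, some x364W, none, some x368W, none],
   [none, some (uInv ++ x24W), none, some (uInv ++ x369W), none, some x23W, none, some x29W],
   [none, some x366W, none, some x365W, none, some (uInv ++ x367W), none, some (uInv ++ x370W)],
   [none, some x96W, none, some x25W, none, some (uInv ++ x129W), none, some (uInv ++ x371W)]]

/-- The rotations used. -/
def patUsed : List (ℕ × ℕ) := [(0, 2), (1, 4), (2, 0), (2, 2), (2, 4), (3, 1), (3, 3), (3, 5), (3, 7), (4, 1), (4, 3), (4, 5), (4, 7), (5, 3), (5, 5), (5, 7)]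

/-- The relations used. -/
def pats : List (List (Option (List ℕ))) := patUsed.map fun q => (basePats.getD q.1 []).rotate q.2

end Cfsg.Agent.Lib.CosetEnum.LyP.Dce
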