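import Cfsg.Agent.Lib.CosetEnum.LyP.Dce.Group
import Cfsg.Agent.Lib.CosetEnum.LyP.Dce.Data.Pats

/-! The fibre (generated by scripts/ly/gen40.py) -/

set_option autoImplicit false
set_option maxRecDepth 100000
set_option Elab.async false

namespace Cfsg.Agent.Lib.CosetEnum.LyP.Dce

open Cfsg.Agent.Lib.CosetEnum Cfsg.Agent.Lib.CosetEnum.LyP Cfsg.Agent.Lib.ExactCover

/-- The cosets of `K` in the point stabiliser. -/
def fibre : Fibre := ⟨[[], [2], [0, 2], [2, 0, 2], [2, 2, 0, 2]], [[(0, [10]), (1, []), (0, [0])], [(2, []), (2, [10, 12, 14]), (1, [4])], [(1, [10, 10]), (3, []), (2, [0, 11, 7, 10])], [(3, [10, 12, 14, 13, 11]), (4, []), (3, [0, 7, 7, 0])], [(4, [10, 14, 11]), (0, [15, 13, 11]), (4, [2, 6])]]⟩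

end Cfsg.Agent.Lib.CosetEnum.LyP.Dce
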