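import Cfsg.Agent.Lib.CosetEnum.LyP.Dce.Data.Derivs
import Cfsg.Agent.Lib.CosetEnum.LyP.Dce.Data.Fib
import Cfsg.Agent.Lib.CosetEnum.LyP.Dce.Data.Node0
import Cfsg.Agent.Lib.CosetEnum.LyP.Dce.Data.Node1
import Cfsg.Agent.Lib.CosetEnum.LyP.Dce.Data.Node2
import Cfsg.Agent.Lib.CosetEnum.LyP.Dce.Data.Node3
import Cfsg.Agent.Lib.CosetEnum.LyP.Dce.Data.Node4

/-! All the data (generated by scripts/ly/gen40.py) -/

set_option autoImplicit false
set_option maxRecDepth 100000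
set_option Elab.async false

namespace Cfsg.Agent.Lib.CosetEnum.LyP.Dce

open Cfsg.Agent.Lib.CosetEnum Cfsg.Agent.Lib.CosetEnum.LyP Cfsg.Agent.Lib.ExactCover

/-- All nodes. -/
noncomputable def allNodes : List NodeData := [node0, node1, node2, node3, node4]

end Cfsg.Agent.Lib.CosetEnum.LyP.Dce
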