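import Cfsg.Agent.Lib.CosetEnum.LyP.Dce.Data.All

/-! Checks of node 3 (generated by scripts/ly/gen40.py) -/

set_option autoImplicit false
set_option maxRecDepth 100000
set_option Elab.async false

namespace Cfsg.Agent.Lib.CosetEnum.LyP.Dce

open Cfsg.Agent.Lib.CosetEnum Cfsg.Agent.Lib.CosetEnum.LyP Cfsg.Agent.Lib.ExactCover

theorem points3_ok : allBelow 3906 (checkPoint node3) = true := by decide +kernel

theorem roots3_ok : checkRoots kData fibre node3 = true := by decide +kernel

theorem classes3_ok : checkClasses (derivs.map Prod.fst) node3 5 3 = true := by decide +kernel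

theorem gens3_ok : checkGens (derivs.map Prod.fst) node3 3 = true := by decide +kernel

theorem node3_ok : NodeOK kData fibre (derivs.map Prod.fst) node3 5 3 :=
  ⟨gens3_ok, classes3_ok, roots3_ok, allBelow_iff.1 points3_ok⟩

theorem chain3_ok : chainOK node3.chain = true := by decide +kernel

theorem chainGens3 : chainGens node3.chain = node3.gens := by decide +kernel

end Cfsg.Agent.Lib.CosetEnum.LyP.Dce
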