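import Cfsg.Agent.Lib.CosetEnum.LyP.Dce.Data.All

/-! Checks of the derivations (generated by scripts/ly/gen40.py) -/

set_option autoImplicit false
set_option maxRecDepth 100000
set_option Elab.async false

namespace Cfsg.Agent.Lib.CosetEnum.LyP.Dce

open Cfsg.Agent.Lib.CosetEnum Cfsg.Agent.Lib.CosetEnum.LyP Cfsg.Agent.Lib.ExactCover

theorem derivs_ok : checkAll kData pats tree derivs [] = true := by decide +kernel

theorem fibre_ok : fibre.check kData = true := by decide +kernel

end Cfsg.Agent.Lib.CosetEnum.LyP.Dce
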