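import Cfsg.Agent.Lib.CosetEnum.LyP.Dce.Group
import Cfsg.Agent.Lib.CosetEnum.LyP.Dce.Data.Pats

/-! Derivations (generated by scripts/ly/gen40.py) -/

set_option autoImplicit false
set_option maxRecDepth 100000
set_option Elab.async false

namespace Cfsg.Agent.Lib.CosetEnum.LyP.Dce

open Cfsg.Agent.Lib.CosetEnum Cfsg.Agent.Lib.CosetEnum.LyP Cfsg.Agent.Lib.ExactCover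

/-- The tree of nodes. -/
def tree : List (ℕ × List ℕ) := [(0, []), (1, [6, 0, 0, 0, 0, 3]), (2, [1, 5, 1, 5, 6, 0, 0, 0, 0]), (2, [4, 2, 5, 6, 0, 0, 0, 0, 2])]

/-- The derived equations. -/
def derivs : List (DFact × Deriv) :=
  [(⟨0, [0], false, 0, []⟩, .base)
  , (⟨0, [2], false, 0, []⟩, .base)
  , (⟨0, [4], false, 0, []⟩, .base)
  , (⟨0, [6], false, 0, []⟩, .base)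
  , (⟨0, [], true, 1, []⟩, .tree)
  , (⟨1, [], true, 0, [0, 0]⟩, .scan 0 0 [0, 0] [.tok, .step 4 []])
  , (⟨1, [1, 1, 5, 2, 5, 5, 2, 1, 3, 3, 4], false, 1, []⟩, .cmp 0 [] [.stab 1 true [3], .stab 1 true [3, 3], .stab 3 true [6, 0, 0, 0, 0, 3, 3], .stab 2 true [5, 6, 0, 0, 0, 0, 3, 3], .stab 1 true [3, 5, 6, 0, 0, 0, 0, 3, 3], .stab 0 true [1, 3, 5, 6, 0, 0, 0, 0, 3, 3], .stab 1 true [3, 1, 3, 5, 6, 0, 0, 0, 0, 3, 3], .stab 1 true [1, 3, 1, 2, 4, 6, 0, 2, 1, 3, 3, 1], .stab 1 true [2, 2, 1, 3, 5, 6, 0, 0, 0, 0, 3, 3], .stab 2 true [7, 4, 6, 3, 4, 6, 5, 0, 3, 5, 5, 0, 2, 2, 0, 2], .stab 1 true [5, 7, 2, 5, 3, 4, 6, 0, 0, 5, 3, 4, 3, 0, 2, 2], .stab 3 false [3, 4, 6, 3, 4, 6, 5, 0, 3, 5, 5, 0, 2, 2,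 0, 2], .stab 2 false [4, 3, 4, 6, 3, 4, 6, 5, 0, 3, 5, 5, 0, 2, 2, 0, 2], .stab 2 false [3, 5, 7, 3, 4, 6, 3, 5, 3, 3, 0, 4, 3, 3, 4], .stab 1 false [5, 7, 3, 4, 6, 3, 5, 3, 3, 0, 4, 3, 3, 4], .stab 2 false [7, 3, 4, 6, 3, 5, 3, 3, 0, 4, 3, 3, 4], .stab 1 false [7, 4, 6, 3, 5, 3, 3, 0, 4, 3, 3, 4], .stab 0 false [6, 1, 4, 6, 3, 5, 3, 3, 0, 4, 3, 3, 4], .stab 3 false [1, 5, 6, 2, 2, 5, 1, 5, 1, 1, 3, 4, 3, 5], .stab 0 false [5, 6, 2, 2, 5, 1, 5, 1, 1, 3, 4, 3, 5], .stab 2 false [6, 2, 2, 5, 1, 5, 1, 1, 3, 4, 3, 5], .stab 3 false [3, 5, 3, 3, 0, 4, 3, 3, 4], .step 4 [0, 3, 9, 14]] [.step 4 []])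
  , (⟨1, [0, 0], false, 1, []⟩, .cmp 0 [] [.stab 1 true [3], .stab 1 true [3, 3], .stab 1 true [2, 2], .stab 3 true [6, 0, 0, 0, 0, 2, 2], .stab 2 true [5, 6, 0, 0, 0, 0, 2, 2], .stab 2 true [5, 5, 6, 0, 0, 0, 0, 2, 2], .stab 0 true [0, 5, 6, 1, 1, 2, 2], .stab 2 true [5, 0, 5, 6, 1, 1, 2, 2], .stab 2 true [5, 5, 0, 5, 6, 1, 1, 2, 2], .stab 2 true [4, 4, 0, 5, 6, 1, 1, 2, 2], .stab 3 false [7, 5, 5, 0, 4, 6, 0, 0, 2, 2], .stab 3 false [5, 5, 0, 4, 6, 0, 0, 2, 2], .stab 2 false [5, 0, 4, 6, 0, 0, 2, 2], .stab 2 false [0, 4, 6, 0, 0, 2, 2], .stab 0 false [4, 4, 6, 2, 2], .stab 0 false [1, 5, 6, 1, 1, 2, 2], .stab 0 false [5, 6, 1, 1, 2, 2], .stab 2 false [6, 1, 1, 2, 2], .stab 3 false [0, 0, 2, 2],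 .stab 1 false [0, 0, 3, 3], .stab 1 false [0, 0, 3], .stab 1 false [0, 0], .step 4 [10, 10]] [.step 4 []])
  , (⟨1, [3, 5, 2, 5, 1, 5, 5, 1], false, 1, []⟩, .cmp 0 [] [.stab 1 true [3], .stab 1 true [3, 3], .stab 3 true [6, 0, 0, 0, 0, 3, 3], .stab 2 true [5, 6, 0, 0, 0, 0, 3, 3], .stab 0 true [1, 5, 6, 0, 0, 0, 0, 3, 3], .stab 0 true [4, 4, 6, 1, 1, 3, 3], .stab 0 true [0, 4, 6, 3, 3], .stab 2 true [5, 0, 4, 6, 3, 3], .stab 3 true [7, 5, 0, 4, 6, 3, 3], .stab 0 true [6, 0, 5, 0, 4, 6, 3, 3], .stab 2 true [0, 5, 2, 0, 5, 6, 1, 3, 3, 5, 0, 3, 0, 2, 0, 2, 4], .stab 1 true [3, 0, 5, 2, 0, 5, 6, 1, 3, 3, 5, 0, 3, 0, 2, 0, 2, 4], .stab 0 false [1, 3, 1, 4, 2, 0, 4, 6, 1, 3, 3, 4, 0, 3, 1, 2, 1, 2, 4],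 .stab 2 false [0, 5, 2, 4, 3, 4, 6, 0, 3, 3, 0, 5, 0, 3, 0, 2, 4], .stab 3 false [1, 4, 0, 4, 1, 5, 6, 0, 4, 2, 0, 4, 4, 0, 3, 0], .stab 2 false [0, 5, 0, 4, 1, 4, 6, 1, 5, 2, 1, 4, 0, 3, 1], .stab 0 false [5, 5, 1, 5, 1, 5, 6, 3, 4, 0, 3, 5, 2, 0, 2], .stab 2 false [5, 1, 5, 1, 5, 6, 3, 4, 0, 3, 5, 2, 0, 2], .stab 2 false [1, 5, 1, 5, 6, 3, 4, 0, 3, 5, 2, 0, 2], .stab 0 false [5, 1, 5, 6, 3, 4, 0, 3, 5, 2, 0, 2], .stab 2 false [1, 5, 6, 3, 4, 0, 3, 5, 2, 0, 2], .stab 0 false [5, 6, 3, 4, 0, 3, 5, 2, 0, 2], .stab 2 false [6, 3, 4, 0, 3, 5, 2, 0, 2], .stab 3 false [1, 5, 2, 1, 4, 0, 3, 1], .step 4 [1, 8, 13, 1, 13]] [.step 4 []])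
  , (⟨1, [3, 0, 2, 0, 3, 3], true, 1, [1, 1, 2]⟩, .scan 1 1 [1, 1, 2] [.tok, .step 5 [10, 12, 14], .tok, .tok, .stab 0 false [0, 2], .stab 1 false [2, 0, 2], .stab 1 false [2, 2, 0, 2], .stab 1 false [3, 3, 0, 2], .step 4 [15, 13, 11], .tok])
  , (⟨1, [7, 0, 3, 4, 3, 0, 4, 6, 0, 5, 1, 3, 4, 1, 5, 2, 0, 3], true, 1, [7, 0, 3, 4, 3, 0, 4, 6, 0, 0, 0, 5, 2, 0, 4, 2, 4]⟩, .scan 4 1 [7, 0, 3, 4, 3, 0, 4, 6, 0, 0, 0, 5, 2, 0, 4, 2, 4] [.tok, .step 5 [5, 14, 11, 7, 15], .tok, .stab 3 false [4, 3, 0, 4, 6, 3, 0, 3, 1], .stab 2 false [5, 0, 2, 5, 6, 0, 0, 0, 0], .stab 3 false [4, 4, 6, 4, 6, 0, 2, 4, 0, 3, 0, 3, 3, 4], .stab 2 false [7, 3, 0, 4, 6, 0, 3, 0, 2, 0, 3, 3, 5, 3, 0], .stab 1 false [7, 0, 4, 6,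 0, 3, 0, 2, 0, 3, 3, 5, 3, 0], .stab 0 false [6, 4, 6, 0, 3, 0, 2, 0, 3, 3, 5, 3, 0], .stab 3 false [5, 6, 0, 3, 1, 2, 1, 3, 3, 5, 3, 0], .stab 2 false [6, 0, 3, 1, 2, 1, 3, 3, 5, 3, 0], .stab 3 false [0, 3, 0, 2, 0, 3, 3, 5, 3, 0], .step 4 [10, 12, 11, 15, 13, 7, 10], .tok])
  , (⟨1, [7, 0, 3, 4, 3, 0, 4, 6, 0, 0, 0, 5, 2, 0, 4, 2, 4], true, 1, [7, 0, 3, 4, 3, 0, 4, 6, 4, 3, 0, 3, 3, 4, 3, 3, 0, 3]⟩, .scan 0 1 [7, 0, 3, 4, 3, 0, 4, 6, 4, 3, 0, 3, 3, 4, 3, 3, 0, 3] [.tok, .step 10 []])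
  , (⟨1, [7, 0, 3, 4, 3, 0, 4, 6, 1, 5, 1, 3, 1, 2, 1, 3, 5, 3], false, 1, [7, 0, 3, 4, 3, 0, 4, 6, 4, 3, 0, 3, 3, 4, 3, 3, 0, 3]⟩, .cmp 1 [7, 0, 3, 4, 3, 0, 4, 6, 0, 0, 0, 5, 2, 0, 4, 2, 4] [.stab 8 false [6, 0, 3, 4, 3, 0, 4, 6, 0, 3, 5, 3, 5, 3, 0, 5, 0, 3], .stab 8 false [6, 1, 3, 4, 3, 0, 4, 6, 5, 0, 5, 1, 3, 4, 0], .stab 8 false [6, 5, 6, 2, 1, 3, 4, 6, 0, 3, 0, 5, 0, 5, 0, 5, 5, 2], .stab 6 false [6, 1, 4, 3, 0, 4, 6, 0, 2, 1, 3, 1, 4, 3, 3, 1, 4, 4, 2], .stab 6 true [6, 5, 6, 2, 1, 3, 4, 6, 0, 3, 0, 5, 0, 5, 0, 5, 5, 2], .stab 6 true [7, 0, 4, 3, 0, 4, 6, 2, 5, 0, 5, 3, 3, 4, 1, 3], .stab 6 true [7, 0, 3, 4, 3, 0, 4, 6, 0, 3, 3, 1, 5, 5, 2, 4, 2, 5], .step 10 [15, 6, 10, 1]] [.step 11 []])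
  , (⟨1, [6, 0, 0, 0, 0, 3], true, 2, []⟩, .tree)
  , (⟨2, [], true, 1, [6, 1, 1, 3]⟩, .scan 0 1 [6, 1, 1, 3] [.tok, .step 13 []])
  , (⟨2, [0, 3, 0, 2, 2], false, 2, []⟩, .cmp 1 [6, 0, 0, 0, 0, 3] [.stab 12 true [3, 3, 5, 0, 4, 6, 2, 0, 3, 3, 1], .stab 7 true [3, 3, 4, 4, 1, 4, 6, 2, 0, 3, 3, 1], .stab 8 true [1, 4, 3, 3, 0, 4, 6, 0, 2, 1, 2, 2, 1, 3], .stab 7 true [6, 4, 3, 3, 0, 4, 6, 1, 5, 3, 1, 2, 5, 1, 3, 5, 3], .stab 7 true [1, 5, 3, 3, 0, 5, 6, 0, 2, 0, 2, 2, 0, 3], .stab 12 true [5, 0, 5, 1, 4, 0, 4, 6, 2, 0, 3, 0, 3, 3, 0], .stab 7 true [4, 0, 5, 1, 5, 0, 4, 6, 2, 1, 3, 1, 3, 3, 1], .stab 6 false [0, 5, 0, 2, 2, 4, 6, 2, 1, 2, 2, 1, 2, 2, 1], .stab 6 false [3, 4, 6, 5, 1, 4, 6, 0, 3, 0,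 3, 5, 0, 4, 3], .stab 6 false [5, 3, 3, 4, 6, 0, 2, 2, 0, 2, 2, 1], .stab 12 false [1, 5, 3, 3, 1, 5, 6, 3, 0, 3, 1], .stab 6 false [3, 4, 1, 4, 0, 5, 6, 2, 0, 2, 2, 0, 2, 2, 1, 2], .stab 6 false [4, 6, 3, 5, 5, 0, 4, 6, 1, 5, 3, 5, 1, 5, 2, 2, 0, 5], .stab 8 false [4, 6, 4, 4, 1, 4, 6, 1, 2, 5, 5, 1, 3, 5, 1], .stab 6 false [3, 3, 5, 0, 4, 6, 2, 0, 2, 2, 0, 2, 2], .stab 12 false [6, 0, 2, 0, 3, 3], .step 13 [13, 15]] [.step 13 []])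
  , (⟨2, [1, 3, 1, 3, 3, 1, 3], false, 2, []⟩, .cmp 1 [6, 0, 0, 0, 0, 3] [.stab 12 true [3, 3, 5, 0, 4, 6, 2, 0, 3, 3, 1], .stab 12 true [0, 3, 3, 4, 2, 0, 4, 6, 3, 3, 0, 3, 3, 1, 2], .stab 7 true [1, 3, 3, 4, 2, 0, 4, 6, 3, 3, 0, 3, 3, 1, 2], .stab 6 true [2, 1, 5, 1, 4, 0, 4, 6, 2, 0, 2, 2, 1, 2], .stab 12 true [0, 2, 5, 1, 2, 0, 4, 6, 1, 3, 1, 2, 2, 1], .stab 8 true [7, 4, 3, 0, 5, 0, 4, 6, 5, 3, 1, 2, 4, 3, 3, 1, 2], .stab 7 false [5, 2, 1, 4, 1, 4, 6, 3, 0, 3, 3, 0], .stab 7 false [6, 4, 3, 0, 5, 0, 4, 6, 5, 3, 1, 2, 4, 3, 3, 1, 2], .stab 6 false [4, 6, 4, 3, 3, 0, 4, 6, 0, 4, 2, 4, 0, 0, 0, 2, 2, 0, 2], .stab 8 false [4, 7, 2, 4, 2, 0, 4, 6, 5, 0, 5, 2, 5, 2, 0, 3, 4], .stab 7 false [4, 2,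 1, 5, 1, 4, 6, 0, 3, 1, 2, 1, 3, 3], .stab 6 false [5, 6, 2, 4, 4, 3, 4, 6, 4, 1, 3, 4, 3, 1, 2, 4, 1], .stab 8 false [3, 5, 0, 4, 0, 5, 6, 0, 0, 2, 0, 3, 3, 0], .stab 6 false [6, 0, 2, 0, 3, 1, 3], .step 13 [13, 15, 13]] [.step 13 []])
  , (⟨2, [2, 4, 1, 2, 0, 4, 6, 0, 3, 3, 1, 4, 3, 1, 2, 4, 2, 2], true, 1, [0, 2, 4, 1, 2, 0, 4, 6, 0, 3, 0]⟩, .scan 14 1 [0, 2, 4, 1, 2, 0, 4, 6, 0, 3, 0] [.tok, .step 5 [0, 7, 8, 10, 6], .tok, .stab 2 false [2, 0, 4, 2, 1, 4, 6, 2, 2, 0, 2, 5, 3, 4, 0, 5], .stab 2 false [5, 3, 4, 1, 5, 6, 5, 2, 0, 5, 3, 0, 2, 1, 5], .stab 1 false [1, 5, 3, 3, 1, 5, 6, 0, 3, 1, 2, 1, 3, 3, 5, 3, 4, 0, 5], .stab 0 false [5, 3, 3, 1, 5, 6, 0, 3, 1, 2, 1, 3, 3, 5, 3, 4, 0, 5], .stab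 2 false [3, 3, 1, 5, 6, 0, 3, 1, 2, 1, 3, 3, 5, 3, 4, 0, 5], .stab 1 false [3, 1, 5, 6, 0, 3, 1, 2, 1, 3, 3, 5, 3, 4, 0, 5], .stab 1 false [1, 5, 6, 0, 3, 1, 2, 1, 3, 3, 5, 3, 4, 0, 5], .stab 0 false [5, 6, 0, 3, 1, 2, 1, 3, 3, 5, 3, 4, 0, 5], .stab 2 false [6, 0, 3, 1, 2, 1, 3, 3, 5, 3, 4, 0, 5], .stab 3 false [0, 2, 5, 2, 1, 5, 2, 0, 3, 1, 4, 2], .step 4 [10, 5, 12, 14, 12, 5, 10, 13], .tok, .stab 8 false [3, 1, 4, 0, 5, 6, 0, 3, 1, 2, 1, 2, 2, 1], .stab 8 false [1, 5, 0, 2, 0, 4, 6, 2, 0, 2, 2, 0, 2, 2, 1, 2], .stab 7 false [0, 5, 0, 2, 0, 4, 6, 2, 0, 2, 2, 0, 2, 2, 1, 2], .stab 7 false [1, 4, 1, 2, 1, 4, 6, 2, 0, 2, 2, 0, 2, 2, 1, 2], .stab 12 false [3, 1, 5, 0, 4, 0, 4, 6, 2, 0, 3, 3, 0], .stab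 7 false [3, 5, 0, 4, 0, 5, 6, 1, 2, 1, 3, 3, 1], .stab 6 false [6, 2, 1, 2, 2, 1, 2, 2], .step 13 [10, 12, 14, 13], .tok])
  , (⟨1, [0, 2, 4, 1, 2, 0, 4, 6, 0, 3, 0], true, 2, [2, 4, 1, 2, 0, 4, 6, 4, 4, 3, 1, 2, 1, 3, 5, 1, 4]⟩, .scan 0 2 [2, 4, 1, 2, 0, 4, 6, 4, 4, 3, 1, 2, 1, 3, 5, 1, 4] [.tok, .step 17 []])
  , (⟨2, [3, 0, 2, 2, 1], false, 2, [2, 4, 1, 2, 0, 4, 6, 4, 4, 3, 1, 2, 1, 3, 5, 1, 4]⟩, .cmp 1 [0, 2, 4, 1, 2, 0, 4, 6, 0, 3, 0] [.stab 6 false [3, 4, 0, 4, 2, 5, 6, 2, 1, 3, 1, 3, 3, 1], .stab 7 false [7, 4, 3, 4, 1, 2, 4, 6, 2, 2, 0, 4, 3, 5, 5, 3, 1, 3], .stab 8 false [1, 4, 6, 5, 0, 4, 6, 1, 4, 0, 2, 1, 5, 2, 5, 2, 0], .stab 6 false [3, 3, 4, 3, 4, 6, 0, 0, 3, 3, 0, 2], .stab 7 false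 [0, 5, 2, 1, 3, 4, 6, 2, 0], .stab 12 false [1, 5, 1, 5, 3, 5, 6, 3, 0, 2, 2, 1], .stab 8 false [6, 0, 3, 3, 1, 2, 2], .step 13 [10, 12, 11, 15]] [.step 18 []])
  , (⟨2, [6, 4, 4, 0, 2, 0, 4, 6, 4, 0, 4, 1, 3, 1, 2, 5, 3], true, 2, [5, 0, 3, 5, 1, 5, 6, 0, 0, 2, 0, 3, 3]⟩, .scan 14 2 [5, 0, 3, 5, 1, 5, 6, 0, 0, 2, 0, 3, 3] [.tok, .step 14 [12, 15, 5, 10, 12, 14, 7], .tok, .stab 12 false [2, 0, 2, 2, 0, 4, 2, 2, 0, 4, 4], .stab 6 true [3, 0, 2, 5, 5, 0, 3, 3], .step 9 [0, 7, 12, 3, 13], .tok, .stab 7 false [3, 3, 5, 5, 6, 3], .stab 8 false [3, 5, 0, 5, 1, 5, 6, 0, 0, 3, 3], .stab 8 false [4, 2, 1, 3, 5, 0, 4, 6, 3, 0, 3, 1], .stab 7 false [2, 2, 0, 2, 5, 1, 4, 6, 0, 3, 0], .stab 12 false [4, 4, 3,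 5, 2, 1, 4, 6, 2, 2, 1, 3, 1, 2], .stab 12 false [3, 5, 0, 4, 0, 5, 6, 0, 2, 1, 2, 2, 1, 2, 2, 1], .stab 6 false [6, 0, 3, 0, 2, 0, 3], .step 13 [10, 13, 11], .tok])
  , (⟨2, [5, 3, 4, 6, 4, 6, 4, 2, 1, 2, 5, 0, 3, 5, 3], true, 2, [3, 1, 2, 4, 6, 1, 3, 1, 3, 3, 1]⟩, .scan 7 2 [3, 1, 2, 4, 6, 1, 3, 1, 3, 3, 1] [.tok, .step 14 [10, 12, 14, 4, 10, 13, 11], .tok, .stab 12 false [7, 4, 3, 0, 4, 6, 5, 1, 4, 2, 1, 5, 3, 3], .stab 8 false [6, 4, 3, 0, 4, 6, 1, 5, 2, 4, 0, 3, 0, 5], .stab 6 true [7, 3, 4, 1, 2, 4, 6, 0, 0, 5, 2, 0, 3, 0, 5, 5, 2], .stab 7 true [6, 3, 4, 3, 0, 4, 6, 2, 2, 5, 1, 3, 4, 0, 5, 3, 5], .stab 12 true [6, 2, 0, 4, 3, 0, 4, 6, 5, 2, 0, 5, 0, 2, 0, 3], .stab 12 true [6, 1, 4, 3, 0,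 4, 6, 4, 1, 2, 5, 0, 3, 5, 3, 1, 3], .stab 8 true [7, 0, 4, 3, 0, 4, 6, 4, 0, 3, 4, 1, 5, 2, 1], .stab 6 true [7, 0, 3, 4, 3, 0, 4, 6, 0, 5, 2, 5, 5, 2, 0, 3, 5, 0, 2], .step 10 [0, 7, 12, 7, 14, 12], .tok, .stab 12 false [3, 5, 1, 4, 1, 4, 6, 0, 3, 5, 1, 2, 5, 3, 3, 1, 2], .stab 6 false [1, 3, 4, 3, 3, 5, 6, 5, 0, 5, 2, 4, 3, 0, 4, 0], .stab 7 false [0, 3, 4, 3, 3, 5, 6, 5, 0, 5, 2, 4, 3, 0, 4, 0], .stab 12 false [4, 3, 0, 3, 4, 6, 0, 2, 1, 5, 3, 0, 5, 1, 3], .stab 12 false [1, 4, 1, 2, 1, 4, 6, 0, 2, 2, 0, 4, 3, 1, 4, 4, 3, 3], .stab 12 false [3, 1, 5, 0, 4, 0, 4, 6, 1, 3, 4, 3, 0, 4, 0, 3, 0, 2], .stab 7 false [3, 5, 0, 4, 0, 5, 6, 1, 4, 1, 2, 5, 2, 5, 1, 4, 2], .stab 6 false [6, 5, 2, 4, 4,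 2, 0, 3, 0, 4, 2], .step 13 [12, 4, 11, 15, 3, 13], .tok])
  , (⟨2, [4, 1, 4, 3, 3, 1, 4, 6, 3, 4, 4, 3, 0, 5, 3, 4, 3, 0], true, 2, [2, 2, 4, 7, 2, 4, 6, 3, 3, 0, 4, 2, 5, 2, 2, 0]⟩, .scan 11 2 [2, 2, 4, 7, 2, 4, 6, 3, 3, 0, 4, 2, 5, 2, 2, 0] [.tok, .step 14 [10, 6, 12, 0, 14], .tok, .stab 6 false [7, 1, 4, 3, 0, 4, 6, 1, 2, 5, 2, 1, 3, 4, 0, 2], .stab 12 false [4, 6, 2, 0, 4, 3, 0, 4, 6, 2, 5, 1, 5, 0, 4, 2, 0, 4, 3], .stab 12 false [6, 3, 4, 1, 2, 4, 6, 3, 0, 2, 5, 0, 4, 2, 2, 1, 2], .stab 8 false [7, 3, 4, 1, 2, 4, 6, 0, 2, 0, 4, 3, 5, 1, 3, 3, 1, 4, 3, 3], .stab 6 false [6, 4, 3, 0, 4, 6, 3, 4, 0, 3, 3, 4, 3], .stab 6 true [7, 3, 4, 1, 2, 4, 6, 0, 2, 0, 4, 3, 5, 1, 3, 3, 1, 4, 3, 3], .stab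 7 true [6, 3, 4, 3, 0, 4, 6, 0, 3, 0, 5, 3, 3, 0, 5, 3, 5, 0], .stab 12 true [6, 2, 0, 4, 3, 0, 4, 6, 0, 2, 0, 5, 3, 3, 0, 3], .stab 12 true [6, 1, 4, 3, 0, 4, 6, 0, 2, 2, 1, 3, 3, 4, 1, 2], .stab 8 true [7, 0, 4, 3, 0, 4, 6, 1, 2, 2, 1, 3, 3, 5, 3, 5, 0, 2], .stab 6 true [7, 0, 3, 4, 3, 0, 4, 6, 3, 3, 0, 4, 3, 3, 1, 3, 5, 1, 4], .step 10 [3, 14, 5, 2, 12, 10], .tok, .stab 12 false [2, 4, 4, 2, 0, 5, 6, 1, 3, 3, 1, 3, 3, 1, 4, 3], .stab 6 false [5, 2, 1, 5, 2, 2, 4, 6, 2, 1, 3, 1, 2, 2, 4, 3], .stab 12 false [1, 2, 0, 4, 1, 5, 6, 0, 2, 2, 1, 3, 1, 4, 3], .stab 7 false [1, 2, 1, 5, 1, 4, 6, 0, 2, 2, 0, 3, 0, 4, 3], .stab 12 false [4, 0, 3, 3, 4, 6, 3, 3, 0, 2, 1, 2, 2, 4, 3], .stab 8 false [1, 5,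 1, 5, 3, 5, 6, 1, 2, 4, 3], .stab 8 false [6, 0, 0, 3, 0, 2, 4, 3], .step 13 [11, 6], .tok])
  , (⟨2, [2, 2, 4, 7, 2, 4, 6, 3, 3, 0, 4, 2, 5, 2, 2, 0], true, 2, [4, 1, 4, 3, 3, 1, 4, 6, 3, 0, 2, 4, 0, 2, 1, 5, 3, 1]⟩, .scan 0 2 [4, 1, 4, 3, 3, 1, 4, 6, 3, 0, 2, 4, 0, 2, 1, 5, 3, 1] [.tok, .step 22 []])
  , (⟨2, [4, 3, 0, 3, 4, 6, 3, 4, 1, 3, 1, 5, 5, 1], true, 2, [5, 3, 4, 6, 4, 4, 6, 4, 2, 1, 3, 3, 5, 1, 1]⟩, .scan 9 2 [5, 3, 4, 6, 4, 4, 6, 4, 2, 1, 3, 3, 5, 1, 1] [.tok, .step 14 [10, 12, 14, 6, 4, 10, 12, 11], .tok, .stab 6 false [7, 1, 4, 3, 0, 4, 6, 3, 1, 5, 3, 4, 3, 1, 4, 2, 5, 0], .stab 12 false [4, 6, 2, 0, 4, 3, 0, 4, 6, 4, 1, 4, 1, 5, 2, 2, 1, 3], .stab 12 false [6, 3, 4, 1, 2, 4, 6, 2,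 1, 5, 2, 2, 0, 5, 2, 2, 4, 4, 0], .stab 8 false [7, 3, 4, 1, 2, 4, 6, 0, 3, 3, 0, 3, 3, 0, 5, 3, 0, 2], .stab 6 false [6, 4, 3, 0, 4, 6, 1, 1, 3, 3, 5, 2, 1, 2, 2], .stab 6 true [7, 3, 4, 1, 2, 4, 6, 0, 3, 3, 0, 3, 3, 0, 5, 3, 0, 2], .stab 7 true [6, 3, 4, 3, 0, 4, 6, 2, 1, 3, 3, 5, 3, 0, 2], .stab 12 true [6, 2, 0, 4, 3, 0, 4, 6, 1, 4, 2, 1, 3, 5, 3, 0, 3], .stab 12 true [6, 1, 4, 3, 0, 4, 6, 3, 4, 3, 3, 5, 5, 1, 3], .stab 8 true [7, 0, 4, 3, 0, 4, 6, 5, 2, 0, 2, 2, 1, 5, 2, 1, 5, 3], .stab 6 true [7, 0, 3, 4, 3, 0, 4, 6, 2, 1, 5, 2, 5, 2, 0, 2, 2, 5, 1], .step 10 [0, 9, 14, 13, 11, 4], .tok, .stab 12 false [5, 5, 0, 3, 3, 5, 6, 0, 4, 2, 1, 5, 1, 1, 3, 4, 3], .stab 12 false [3, 4, 0, 2, 2, 4, 6,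 4, 0, 2, 0, 5, 3, 0, 5, 3, 3, 4], .stab 8 false [5, 3, 1, 4, 2, 5, 6, 0, 2, 2, 4, 0, 2, 4, 2, 0, 2, 5], .stab 6 false [0, 5, 2, 1, 3, 4, 6, 2, 0, 3, 3, 1, 5, 2, 1, 5], .stab 12 false [1, 5, 1, 5, 3, 5, 6, 2, 0, 3, 3, 5, 5, 2, 0, 5], .stab 8 false [6, 1, 3, 3, 5, 2, 1, 5], .step 13 [12, 5, 5, 10, 1], .tok])
  , (⟨2, [1, 4, 6, 5, 0, 4, 6, 4, 3, 3, 0, 2, 5, 3, 1], true, 2, [4, 3, 0, 4, 6, 2, 4, 6, 0, 4, 4, 3, 0, 3, 3, 0, 4]⟩, .scan 11 2 [4, 3, 0, 4, 6, 2, 4, 6, 0, 4, 4, 3, 0, 3, 3, 0, 4] [.tok, .step 14 [0, 12, 14, 12, 10, 5, 12], .tok, .stab 6 false [5, 6, 0, 4, 3, 0, 4, 6, 0, 3, 0, 2, 1, 3, 5, 2, 2, 5, 2], .stab 12 false [7, 2, 1, 4, 3, 0, 4, 6, 1, 2, 4, 1, 4, 3, 1, 4, 2, 2, 4], .stab 12 false [7,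 3, 4, 1, 2, 4, 6, 5, 3, 1, 4, 3, 3, 4, 0, 4, 2, 2], .stab 6 false [6, 4, 3, 0, 4, 6, 4, 1, 3, 4, 1, 2, 1, 2, 2, 4], .stab 6 true [7, 3, 4, 1, 2, 4, 6, 5, 3, 1, 4, 3, 3, 4, 0, 4, 2, 2], .stab 7 true [6, 3, 4, 3, 0, 4, 6, 0, 3, 0, 2, 4, 0, 5, 0, 5, 2], .stab 12 true [6, 2, 0, 4, 3, 0, 4, 6, 5, 2, 1, 5, 3, 0, 3, 3, 1, 3, 5], .stab 12 true [6, 1, 4, 3, 0, 4, 6, 2, 0, 2, 4, 0, 5, 3, 0], .stab 8 true [7, 0, 4, 3, 0, 4, 6, 1, 2, 5, 0, 3, 1, 5, 2, 5, 2], .stab 6 true [7, 0, 3, 4, 3, 0, 4, 6, 3, 3, 4, 1, 5, 5, 2, 2, 5], .step 10 [3, 0, 7, 10, 10, 14], .tok, .stab 12 false [0, 5, 0, 3, 4, 6, 2, 2, 1, 3, 5, 0, 2, 1], .stab 12 false [5, 5, 7, 5, 0, 4, 6, 0, 0, 2, 4, 0, 2, 4, 2], .stab 7 false [5, 3, 4, 3, 1,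 4, 6, 2, 0, 2, 1, 5, 1, 2, 4, 3], .stab 12 false [5, 5, 6, 5, 0, 4, 6, 2, 4, 2, 2, 5, 0, 2, 0, 5], .stab 7 false [4, 6, 4, 4, 1, 4, 6, 2, 4, 2, 2, 5, 0, 2, 0, 5], .stab 6 false [3, 3, 5, 0, 4, 6, 2, 0, 5, 3, 1, 2, 2, 1, 2], .stab 12 false [6, 2, 1, 5, 2, 2, 0, 2, 2, 4, 1], .step 13 [14, 13, 6, 10, 12, 14], .tok])
  , (⟨2, [4, 3, 0, 4, 6, 2, 4, 6, 0, 4, 4, 3, 0, 3, 3, 0, 4], true, 2, [1, 4, 6, 5, 0, 4, 6, 4, 2, 2, 0, 4, 0, 2, 5]⟩, .scan 0 2 [1, 4, 6, 5, 0, 4, 6, 4, 2, 2, 0, 4, 0, 2, 5] [.tok, .step 25 []])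
  , (⟨2, [1, 4, 0, 5, 2, 1, 4, 6, 5, 1, 3, 5, 3, 4, 3, 1, 2], true, 2, [7, 1, 3, 4, 6, 3, 1, 3, 3, 4, 0, 4, 3, 0, 2, 4]⟩, .scan 9 2 [7, 1, 3, 4, 6, 3, 1, 3, 3, 4, 0, 4, 3, 0, 2, 4] [.tok, .step 14 [1, 2, 14, 5, 5], .tok, .stab 6 false [6, 4, 3, 0, 4, 6, 2, 4, 2, 2, 4, 1, 4, 3, 3, 0], .stab 6 false [7, 3, 4, 1, 2, 4, 6, 5, 3, 5, 1, 5, 3, 3, 1, 2, 2], .stab 6 false [6, 4, 3, 0, 4, 6, 0, 3, 5, 0, 2, 0, 3, 4, 3, 3, 4], .stab 6 true [7, 3, 4, 1, 2, 4, 6, 5, 3, 5, 1, 5, 3, 3, 1, 2, 2], .stab 7 true [6, 3, 4, 3, 0, 4, 6, 0, 3, 0, 4, 2, 2, 4, 0, 5, 1, 5], .stab 12 true [6, 2, 0, 4, 3, 0, 4, 6, 2, 1, 5, 3, 1, 3, 3, 5, 1, 5, 3, 5], .stab 12 true [6, 1, 4, 3, 0, 4, 6, 1, 3, 5, 1, 4, 3, 3, 5, 1, 4], .stab 8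 true [7, 0, 4, 3, 0, 4, 6, 2, 0, 3, 3, 4, 4, 0, 5, 3, 1, 5], .stab 6 true [7, 0, 3, 4, 3, 0, 4, 6, 3, 3, 4, 1, 5, 1, 1, 2, 2, 5], .step 10 [0, 7, 14, 7, 5], .tok, .stab 6 false [4, 6, 4, 6, 4, 0, 4, 6, 5, 2, 4, 0, 3, 5, 3, 1, 4], .stab 12 false [0, 5, 7, 5, 1, 4, 6, 0, 2, 2, 1, 4, 3, 1, 2, 1, 4, 0], .stab 6 false [7, 5, 3, 0, 5, 0, 4, 6, 2, 0, 2, 5, 2, 1, 2, 5, 1, 3], .stab 8 false [3, 1, 5, 0, 4, 0, 4, 6, 1, 2, 2, 5, 1, 3, 1, 2, 1, 5, 1], .stab 7 false [3, 5, 0, 4, 0, 5, 6, 2, 4, 4, 2, 1, 5, 3, 1, 5, 2], .stab 6 false [6, 3, 3, 1, 2, 5, 2, 4, 2, 5, 3], .step 13 [1, 11, 5, 12, 15, 7], .tok])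
  , (⟨2, [5, 0, 5, 0, 3, 5, 6, 0, 2, 0, 3, 1, 2, 2], true, 2, [3, 4, 2, 5, 5, 6, 3, 4, 3, 5, 0, 4, 0, 0]⟩, .scan 15 2 [3, 4, 2, 5, 5, 6, 3, 4, 3, 5, 0, 4, 0, 0] [.tok, .step 14 [13, 2, 10, 15, 13], .tok, .stab 7 false [7, 2, 1, 4, 3, 0, 4, 6, 2, 2, 0, 2, 2, 0], .stab 12 false [7, 3, 4, 1, 2, 4, 6, 0, 4, 3, 3, 0, 5, 2, 2, 1, 4], .stab 6 false [6, 4, 3, 0, 4, 6, 2, 4, 0, 2, 2, 0, 3, 4, 3], .stab 6 false [7, 3, 4, 1, 2, 4, 6, 5, 2, 2, 1, 2, 5, 2, 0], .stab 6 false [6, 4, 3, 0, 4, 6, 3, 0, 2, 0, 4, 3, 1, 3, 5, 3], .stab 6 true [7, 3, 4, 1, 2, 4, 6, 5, 2, 2, 1, 2, 5, 2, 0], .stab 7 true [6, 3, 4, 3, 0, 4, 6, 0, 4, 3, 5, 1, 5, 5, 2, 4, 2], .stab 12 true [6, 2, 0, 4, 3, 0, 4, 6, 0, 2, 4, 0, 5, 2, 0, 3,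 0, 3, 3, 1], .stab 12 true [6, 1, 4, 3, 0, 4, 6, 0, 3, 0, 4, 2, 2, 4, 2, 5, 0], .stab 8 true [7, 0, 4, 3, 0, 4, 6, 4, 2, 1, 2, 2, 5, 2, 0, 3, 1], .stab 6 true [7, 0, 3, 4, 3, 0, 4, 6, 0, 3, 5, 3, 1, 2, 4, 2, 1, 5], .step 10 [5, 6, 15, 5], .tok, .stab 8 false [1, 2, 4, 2, 2, 4, 6, 0, 3, 4, 2, 0, 3, 3, 4, 0, 0], .stab 8 false [6, 3, 1, 4, 2, 0, 4, 6, 3, 3, 0, 2, 5, 5, 0, 3, 0, 4, 3], .stab 8 false [4, 0, 3, 5, 2, 4, 6, 1, 5, 0, 2, 5, 0, 5, 5, 0], .stab 6 false [1, 5, 2, 1, 5, 6, 0, 2, 1, 5, 1, 3, 4, 2, 1, 3], .stab 12 false [5, 7, 3, 4, 2, 4, 6, 0, 2, 1, 5, 1, 4, 3, 1, 5], .stab 6 false [3, 5, 0, 4, 0, 5, 6, 1, 2, 2, 4, 0, 2, 4, 1, 5, 1], .stab 6 false [6, 0, 2, 4, 1, 2, 2, 1, 2, 2, 5, 5], .step 13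 [0, 12, 10, 7, 12, 15, 7, 12], .tok])
  , (⟨2, [3, 3, 1, 2, 2], true, 2, [3, 3, 0, 2, 2]⟩, .scan 1 2 [3, 3, 0, 2, 2] [.tok, .step 14 [10, 10], .tok, .tok, .stab 6 false [1, 4, 0, 4, 3, 0, 4, 6, 1], .stab 6 false [2, 1, 3, 1, 5, 1, 4, 6, 1, 3, 1, 2], .stab 6 false [7, 2, 5, 3, 4, 6, 0, 0, 5, 3, 4, 2, 2], .stab 7 false [2, 5, 2, 4, 6, 1, 1, 2, 2], .stab 6 false [3, 1, 5, 0, 4, 0, 4, 6, 0, 3, 3, 0, 2, 2], .stab 7 false [3, 5, 0, 4, 0, 5, 6, 0, 3, 3, 0, 2, 2, 1], .stab 6 false [6, 0, 0, 3], .step 13 [11, 11], .tok])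
  , (⟨2, [0, 5, 6, 0, 4, 3, 0, 4, 6, 0, 4, 3, 0, 5, 3, 3, 1, 2, 4], true, 2, [0, 5, 6, 0, 4, 3, 0, 4, 6, 0, 3, 3, 4, 0, 4, 3, 3, 4, 0]⟩, .scan 3 2 [0, 5, 6, 0, 4, 3, 0, 4, 6, 0, 3, 3, 4, 0, 4, 3, 3, 4, 0] [.tok, .step 14 [9, 12, 5, 11, 15, 13], .tok, .stab 8 false [4, 1, 2, 0, 5, 6, 1, 1, 3, 3], .stab 8 false [4, 1, 2, 5, 1, 4, 6, 1, 1, 3, 3], .stab 7 false [6, 3, 4, 2, 4, 0, 4, 6, 3, 4, 1, 3, 5, 3, 0, 3, 3, 5], .stab 6 false [0, 5, 7, 2, 5, 2, 4, 6, 3, 1, 2, 4, 0, 3, 5, 5], .stab 8 false [7, 5, 3, 0, 5, 0, 4, 6, 0, 0, 4, 0, 4, 2, 1, 5], .stab 8 false [3, 1, 5, 0, 4, 0, 4, 6, 2, 2, 0, 3, 0, 2], .stab 7 false [3, 5, 0, 4, 0, 5, 6, 1, 2, 2, 1, 3, 1, 2], .stab 6 false [6, 1, 2, 1, 3, 3], .step 13 [12,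 14], .tok])
  , (⟨2, [1, 5, 1, 2, 0, 4, 6, 2, 5, 3, 5, 2, 5, 1, 3, 3], true, 2, [6, 0, 2, 4, 6, 2, 0, 3, 4, 4, 0, 3, 3, 0, 5, 3]⟩, .scan 11 2 [6, 0, 2, 4, 6, 2, 0, 3, 4, 4, 0, 3, 3, 0, 5, 3] [.tok, .step 14 [6, 10, 15, 3, 1], .tok, .stab 6 false [7, 0, 4, 3, 0, 4, 6, 5, 1, 2, 2, 4, 1, 5, 2], .stab 12 false [7, 2, 0, 4, 3, 0, 4, 6, 2, 0, 3, 5, 5, 3, 3, 0, 4, 0], .stab 7 false [7, 2, 1, 4, 3, 0, 4, 6, 2, 0, 3, 5, 5, 3, 3, 0, 4, 0], .stab 12 false [7, 3, 4, 1, 2, 4, 6, 2, 4, 2, 1, 4, 3, 5, 3, 1, 3], .stab 6 false [6, 4, 3, 0, 4, 6, 4, 3, 0, 3, 4, 3, 4, 0, 3, 0], .stab 6 true [7, 3, 4, 1, 2, 4, 6, 2, 4, 2, 1, 4, 3, 5, 3, 1, 3], .stab 7 true [6, 3, 4, 3, 0, 4, 6, 3, 5, 3, 3, 4, 2, 1, 3, 1, 2], .stab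 12 true [6, 2, 0, 4, 3, 0, 4, 6, 5, 3, 4, 0, 3, 0, 4, 2, 1], .stab 12 true [6, 1, 4, 3, 0, 4, 6, 2, 1, 4, 3, 4, 1, 1, 2], .stab 8 true [7, 0, 4, 3, 0, 4, 6, 0, 5, 3, 0, 3, 5, 1, 2], .stab 6 true [7, 0, 3, 4, 3, 0, 4, 6, 4, 1, 3, 5, 3, 1, 3, 4, 3, 1, 3], .step 10 [1, 15, 0, 2, 11, 13], .tok, .stab 12 false [4, 4, 7, 4, 2, 4, 6, 2, 2, 4, 1, 3, 4, 3, 4, 3, 5], .stab 7 false [4, 3, 3, 1, 4, 6, 0, 0, 3, 0], .stab 6 false [2, 2, 1, 5, 0, 4, 6, 0, 2, 1, 3, 1], .stab 6 false [1, 4, 3, 3, 0, 4, 6, 2, 2, 0, 2, 2, 0], .stab 8 false [3, 3, 4, 4, 1, 4, 6, 0, 0, 3, 0], .stab 7 false [3, 3, 5, 0, 4, 6, 0, 0, 3, 0], .stab 12 false [6, 0, 0, 2, 0, 3, 3], .step 13 [15], .tok])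
  , (⟨2, [5, 3, 1, 5, 0, 4, 6, 0, 2, 4, 3, 4, 3, 1, 3, 4, 3], true, 2, [5, 3, 1, 5, 3, 5, 6, 2, 4, 1, 3, 1, 4, 2, 2, 0]⟩, .scan 11 2 [5, 3, 1, 5, 3, 5, 6, 2, 4, 1, 3, 1, 4, 2, 2, 0] [.tok, .stab 19 false [5, 2, 5, 3, 5, 0, 4, 6, 1, 3, 5, 2, 2, 0, 3, 3, 5], .stab 19 false [2, 0, 5, 7, 5, 1, 4, 6, 3, 3, 4, 0, 2, 4, 1, 3, 3, 5], .stab 16 false [0, 4, 0, 2, 0, 4, 6, 1, 4, 0, 3, 3, 5, 2, 5, 2], .stab 19 false [2, 4, 2, 1, 2, 4, 6, 2, 1, 4, 4, 1, 3, 4], .stab 15 false [1, 4, 0, 3, 5, 0, 4, 6, 0, 2, 1, 3, 4, 1, 3, 1, 2, 4], .stab 16 false [7, 3, 5, 3, 4, 6, 3, 3, 5, 2, 5, 1, 3, 5, 1], .stab 19 false [1, 4, 2, 2, 5, 6, 1, 4, 0, 5, 2, 4, 1, 3, 5], .stab 15 false [4, 2, 5, 6, 3, 3, 0, 2, 4, 3, 3, 0, 5, 2,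 4], .stab 15 true [1, 4, 2, 2, 5, 6, 1, 4, 0, 5, 2, 4, 1, 3, 5], .stab 19 true [7, 3, 5, 3, 4, 6, 3, 3, 5, 2, 5, 1, 3, 5, 1], .stab 16 true [1, 4, 0, 3, 5, 0, 4, 6, 0, 2, 1, 3, 4, 1, 3, 1, 2, 4], .stab 16 true [3, 4, 2, 5, 6, 1, 2, 1, 5, 0, 3, 3, 1, 4], .stab 16 true [7, 5, 1, 4, 3, 0, 4, 6, 4, 0, 2, 0, 2, 2, 0, 3, 4], .stab 19 true [6, 4, 3, 1, 2, 4, 6, 1, 5, 3, 0, 2, 5, 2, 2, 0, 4], .stab 16 true [6, 4, 4, 0, 2, 0, 4, 6, 0, 3, 5, 1, 3, 1, 5, 2, 5, 2], .step 20 [3, 4, 4, 14, 11], .tok, .stab 15 false [1, 4, 1, 5, 3, 4, 6, 3, 3, 1, 5, 5, 2, 4, 3, 4, 3], .stab 19 false [6, 4, 3, 1, 3, 4, 6, 1, 2, 1, 4, 2, 5, 0], .stab 16 false [1, 3, 3, 5, 1, 4, 6, 4, 3, 0, 2, 2, 5, 0, 3, 4, 0], .stab 19 false [6,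 5, 0, 3, 3, 4, 6, 5, 0, 2, 2, 5, 5, 2, 0, 3, 3], .stab 16 false [5, 1, 4, 2, 0, 5, 6, 0, 2, 0, 5, 3, 3, 4, 4, 1, 5, 2], .stab 15 false [2, 4, 1, 2, 0, 4, 6, 2, 2, 4, 3, 3, 5, 1, 3, 5], .stab 19 false [3, 0, 2, 2, 4, 1, 2, 4, 0, 3, 0], .step 14 [10, 12, 4, 10, 15, 7, 12, 11], .tok, .stab 8 false [3, 4, 4, 6, 5, 5, 1, 5, 2, 0, 3, 1], .stab 12 false [5, 0, 2, 5, 2, 0, 4, 6, 5, 1, 5, 5, 2, 4, 2, 1, 3], .stab 6 false [5, 0, 5, 1, 5, 6, 2, 4, 2, 0, 3, 1, 5, 2, 1, 5], .stab 7 false [5, 5, 1, 4, 1, 4, 6, 0, 5, 3, 1, 3, 4, 3, 1, 2, 4], .stab 8 false [4, 4, 3, 5, 2, 1, 4, 6, 5, 3, 1, 3, 4, 3, 1, 2, 4], .stab 12 false [3, 5, 0, 4, 0, 5, 6, 0, 4, 0, 4, 2, 0, 2, 4, 1, 2], .stab 6 false [6, 0, 3, 3, 5, 3, 4,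 0, 4, 3, 0, 2], .step 13 [14, 6, 8, 10, 12, 2], .tok])
  , (⟨2, [5, 3, 1, 5, 3, 5, 6, 2, 4, 1, 3, 1, 4, 2, 2, 0], true, 2, [5, 3, 1, 5, 0, 4, 6, 0, 3, 5, 3, 5, 2, 5, 0, 3, 3]⟩, .scan 0 2 [5, 3, 1, 5, 0, 4, 6, 0, 3, 5, 3, 5, 2, 5, 0, 3, 3] [.tok, .step 32 []])
  , (⟨2, [2, 5, 3, 5, 0, 4, 6, 1, 5, 3, 1, 3, 5, 2, 5, 2, 1], true, 2, [3, 4, 3, 5, 0, 5, 6, 0, 3, 3, 0, 2, 1, 3]⟩, .scan 14 2 [3, 4, 3, 5, 0, 5, 6, 0, 3, 3, 0, 2, 1, 3] [.tok, .step 14 [2, 13, 9, 15, 6, 6], .tok, .stab 6 false [4, 2, 2, 1, 3, 5, 6, 0, 5, 3, 5, 1, 4, 2, 2, 4], .stab 12 false [5, 2, 4, 0, 3, 0, 4, 6, 4, 1, 4, 3, 5, 0, 4, 3, 5], .stab 6 false [4, 1, 3, 3, 4, 6, 0, 4, 0, 0, 3, 4, 3, 5, 0, 4], .stab 8 false [1, 2, 1, 5, 1, 4, 6,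 0, 4, 2, 2, 5, 1, 5, 3, 3, 4], .stab 12 false [4, 0, 3, 3, 4, 6, 2, 4, 0, 2, 1, 5, 3, 4, 0], .stab 8 false [1, 5, 1, 5, 3, 5, 6, 1, 2, 5, 2, 1, 4, 1, 3, 1, 3], .stab 8 false [6, 0, 5, 3, 0, 2, 4, 1, 3, 1, 5], .step 13 [10, 14, 1, 14, 7, 12], .tok, .stab 19 false [1, 5, 3, 5, 2, 1, 4, 6, 0, 2, 0, 5, 0, 5, 0, 5], .stab 16 false [5, 5, 2, 5, 3, 4, 6, 3, 5, 5, 3, 1, 3, 3, 5, 0, 3, 0], .stab 19 false [4, 1, 5, 2, 4, 6, 2, 0, 3, 5, 0, 4, 3, 3, 0, 3, 3, 0], .stab 15 false [6, 5, 0, 3, 3, 4, 6, 2, 0, 2, 2, 1, 5, 2, 2, 5, 1, 2], .stab 15 false [5, 1, 4, 2, 5, 6, 1, 3, 1, 2, 1, 4, 1, 5, 5], .stab 16 false [2, 4, 1, 2, 0, 4, 6, 3, 3, 0, 2, 5, 0, 4, 0, 0], .stab 19 false [0, 4, 3, 0, 4, 2, 2, 0, 3, 3, 5], .step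 29 [2, 15, 6, 10, 13, 5, 14], .tok])
  , (⟨2, [4, 4, 3, 0, 5, 3, 4, 6, 0, 4, 2, 4, 0, 2, 2, 4, 3], true, 2, [5, 0, 3, 3, 4, 6, 0, 4, 3, 5, 1, 1, 2, 4, 1]⟩, .scan 11 2 [5, 0, 3, 3, 4, 6, 0, 4, 3, 5, 1, 1, 2, 4, 1] [.tok, .stab 19 false [5, 2, 5, 3, 5, 0, 4, 6, 1, 4, 2, 5, 0, 2, 5, 2, 2, 4], .stab 19 false [2, 0, 5, 7, 5, 1, 4, 6, 1, 1, 2, 2, 5, 1, 3, 5, 1, 2, 2], .stab 16 false [0, 4, 0, 2, 0, 4, 6, 5, 2, 4, 1, 4, 0, 3], .stab 19 false [2, 4, 2, 1, 2, 4, 6, 1, 4, 2, 5, 5, 3, 5, 1], .stab 15 false [1, 4, 0, 3, 5, 0, 4, 6, 1, 2, 2, 4, 0, 2, 2, 0, 4, 0], .stab 16 false [7, 3, 5, 3, 4, 6, 3, 4, 4, 1, 5, 3, 1, 5], .stab 19 false [1, 4, 2, 2, 5, 6, 2, 4, 4, 3, 5, 2, 1, 4, 3, 4], .stab 15 false [4, 2, 5,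 6, 5, 3, 4, 1, 2, 1, 5, 2, 2, 5], .stab 15 true [1, 4, 2, 2, 5, 6, 2, 4, 4, 3, 5, 2, 1, 4, 3, 4], .stab 19 true [7, 3, 5, 3, 4, 6, 3, 4, 4, 1, 5, 3, 1, 5], .stab 16 true [1, 4, 0, 3, 5, 0, 4, 6, 1, 2, 2, 4, 0, 2, 2, 0, 4, 0], .stab 16 true [3, 4, 2, 5, 6, 5, 0, 5, 1, 4, 1, 3, 1], .stab 16 true [7, 5, 1, 4, 3, 0, 4, 6, 0, 2, 5, 0, 2, 2, 0, 4, 3, 5], .stab 19 true [6, 4, 3, 1, 2, 4, 6, 4, 1, 4, 3, 0, 3, 5, 3, 0, 4], .stab 16 true [6, 4, 4, 0, 2, 0, 4, 6, 4, 2, 0, 3, 5, 3, 0, 4, 0], .step 20 [4, 15, 2, 10, 7], .tok, .stab 19 false [6, 5, 0, 3, 3, 4, 6, 3, 4, 1, 1, 3, 3, 5, 1, 4], .stab 16 false [5, 1, 4, 2, 0, 5, 6, 0, 2, 2, 0, 3, 1, 5, 2, 1, 3], .stab 15 false [2, 4, 1, 2, 0, 4, 6, 0, 3, 5, 1, 2,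 1, 2, 2, 1, 2], .stab 19 false [2, 1, 4, 1, 4, 1, 5, 3, 4], .step 14 [0, 11, 11, 4, 13, 4], .tok, .stab 12 false [6, 4, 4, 0, 2, 0, 4, 6, 4, 2, 4, 2, 2, 4, 0, 3, 0], .stab 6 false [3, 4, 3, 5, 2, 4, 6, 5, 0, 4, 2, 1, 2, 4, 4, 3], .stab 6 false [3, 5, 2, 4, 6, 2, 1, 3, 5, 1, 4, 3, 3, 0, 3], .stab 8 false [3, 4, 2, 0, 5, 0, 4, 6, 2, 0, 3, 5, 5, 0, 4, 3, 3, 0, 3], .stab 6 false [0, 3, 3, 4, 2, 0, 4, 6, 0, 4, 2, 0, 5, 3, 0, 5, 2, 1], .stab 12 false [3, 3, 5, 0, 4, 6, 1, 3, 1, 4, 1, 5, 3, 0, 2, 2], .stab 12 false [6, 5, 0, 5, 5, 2, 5, 2, 0, 2], .step 13 [12, 2, 15, 3, 12, 10], .tok])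
  , (⟨2, [5, 0, 3, 3, 4, 6, 0, 4, 3, 5, 1, 1, 2, 4, 1], true, 2, [4, 4, 3, 0, 5, 3, 4, 6, 0, 4, 0, 5, 0, 4, 2, 5, 0, 2]⟩, .scan 0 2 [4, 4, 3, 0, 5, 3, 4, 6, 0, 4, 0, 5, 0, 4, 2, 5, 0, 2] [.tok, .step 35 []])
  , (⟨2, [3, 1, 5, 0, 4, 6, 3, 3, 0, 3, 3, 1, 3], true, 2, [2, 5, 3, 5, 0, 4, 6, 5, 5, 1, 2, 1, 5, 3, 3, 0]⟩, .scan 15 2 [2, 5, 3, 5, 0, 4, 6, 5, 5, 1, 2, 1, 5, 3, 3, 0] [.tok, .stab 15 false [1, 4, 3, 5, 1, 4, 6, 1, 5, 2, 5, 0, 5, 0, 5, 5], .stab 16 false [1, 4, 3, 3, 1, 4, 6, 0, 2, 5, 0, 3, 0, 5, 2, 0, 5, 2], .stab 19 false [5, 7, 2, 4, 3, 4, 6, 4, 1, 4, 1, 1, 2, 5, 2, 1, 3], .stab 16 false [5, 2, 1, 4, 6, 2, 2, 1, 3, 5, 3, 1, 2, 1], .stab 19 false [5, 0, 4, 3, 3, 4, 6, 2, 1, 2, 4, 2, 2, 4,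 3, 4], .stab 16 false [4, 4, 1, 5, 6, 5, 3, 5, 0, 3, 1, 3, 4, 3], .stab 16 false [1, 5, 2, 4, 4, 1, 4, 6, 2, 2, 5, 5, 2, 0, 4, 2, 2, 0], .stab 16 false [5, 0, 5, 6, 5, 3, 5, 0, 3, 1, 3, 4, 3], .stab 16 true [1, 5, 2, 4, 4, 1, 4, 6, 2, 2, 5, 5, 2, 0, 4, 2, 2, 0], .stab 16 true [4, 4, 1, 5, 6, 5, 3, 5, 0, 3, 1, 3, 4, 3], .stab 16 true [5, 0, 4, 3, 3, 4, 6, 2, 1, 2, 4, 2, 2, 4, 3, 4], .stab 19 true [5, 2, 1, 4, 6, 2, 2, 1, 3, 5, 3, 1, 2, 1], .stab 16 true [5, 7, 2, 4, 3, 4, 6, 4, 1, 4, 1, 1, 2, 5, 2, 1, 3], .stab 19 true [1, 4, 3, 3, 1, 4, 6, 0, 2, 5, 0, 3, 0, 5, 2, 0, 5, 2], .stab 16 true [1, 4, 3, 5, 1, 4, 6, 1, 5, 2, 5, 0, 5, 0, 5, 5], .stab 15 true [5, 3, 1, 5, 0, 4, 6, 5, 3, 3, 0, 5, 3, 5, 0,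 3, 1], .step 32 [1, 12, 0, 2, 10, 14, 12, 10], .tok, .stab 16 false [4, 1, 3, 5, 1, 5, 6, 2, 4, 0, 0, 2, 2, 4, 0, 4, 0], .stab 19 false [4, 3, 4, 1, 2, 1, 4, 6, 0, 3, 4, 2, 2, 4, 0, 5, 1], .stab 16 false [0, 3, 3, 4, 1, 5, 6, 4, 3, 5, 5, 0, 2, 0, 4], .stab 15 false [1, 3, 3, 4, 1, 5, 6, 4, 3, 3, 1, 3, 4, 3, 4, 1, 5], .stab 19 false [5, 1, 4, 2, 5, 6, 2, 2, 4, 2, 0, 3, 5, 3, 0], .stab 16 false [2, 4, 1, 2, 0, 4, 6, 1, 2, 4, 2, 2, 4, 2, 1], .stab 19 false [3, 1, 2, 4, 1, 3, 5, 1, 3, 3], .step 14 [12, 11, 2, 12, 14, 1, 13], .tok, .stab 7 false [4, 7, 5, 0, 3, 0, 4, 6, 1, 5, 2, 2, 5, 2, 0, 2, 4, 0], .stab 12 false [7, 5, 3, 0, 5, 0, 4, 6, 2, 2, 4, 4, 2, 0, 4, 3, 4, 0], .stab 8 false [3, 1, 5, 0, 4,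 0, 4, 6, 3, 5, 3, 0, 3, 4, 0, 3, 3], .stab 7 false [3, 5, 0, 4, 0, 5, 6, 0, 4, 3, 4, 0, 2, 1, 5, 3, 4], .stab 6 false [6, 1, 4, 0, 2, 0, 3, 5, 3, 4, 0, 5], .step 13 [0, 5, 10, 7, 9, 14], .tok])
  , (⟨2, [1, 5, 1, 5, 6, 0, 0, 0, 0], true, 3, []⟩, .tree)
  , (⟨3, [], true, 2, [1, 5, 1, 5, 6, 1, 1]⟩, .scan 0 2 [1, 5, 1, 5, 6, 1, 1] [.tok, .step 38 []])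
  , (⟨1, [3, 3, 1, 4, 6, 1, 1, 3, 5, 1, 2, 5], true, 3, [2, 0, 5, 2, 0, 4, 6, 2, 1, 4, 3, 5, 0, 4, 0, 0]⟩, .scan 15 3 [2, 0, 5, 2, 0, 4, 6, 2, 1, 4, 3, 5, 0, 4, 0, 0] [.tok, .step 39 [10, 5, 12, 11, 15, 6, 12], .tok, .stab 15 false [5, 5, 6, 5, 1, 4, 6, 2, 4, 0, 3, 0, 3, 4, 1, 2, 1], .stab 15 false [5, 6, 5, 5, 0, 4, 6, 1, 3, 3, 5, 0, 3, 4, 2], .stab 19 false [7, 4, 3, 1, 3, 4, 6, 0, 4, 1, 5, 0, 5, 3, 3], .stab 16 false [1, 3, 3, 4, 1, 5, 6, 0, 4, 0, 2, 4, 0, 5, 0, 0], .stab 19 false [5, 1, 4, 2, 5, 6, 0, 5, 0, 4, 4, 2, 5, 1], .stab 16 false [2, 4, 1, 2, 0, 4, 6, 1, 4, 2, 1, 3, 1, 5, 0, 3, 1], .stab 19 false [3, 0, 4, 2, 4, 1, 4, 2, 2], .step 14 [2, 13, 4, 11, 15, 13], .tok, .stab 6 false [6, 0,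 4, 3, 0, 4, 6, 2, 1, 2, 2, 5, 0, 3, 3, 4, 4], .stab 7 false [6, 1, 4, 3, 0, 4, 6, 2, 1, 2, 2, 5, 0, 3, 3, 4, 4], .stab 12 false [6, 2, 0, 4, 3, 0, 4, 6, 0, 2, 4, 2, 0, 2, 4, 1, 3, 4, 1], .stab 12 false [6, 3, 4, 3, 0, 4, 6, 1, 3, 1, 2, 1, 4, 4, 2, 5, 2], .stab 7 false [7, 3, 4, 1, 2, 4, 6, 1, 3, 4, 3, 0, 2, 0, 3, 4], .stab 6 false [6, 4, 3, 0, 4, 6, 0, 4, 4, 3, 4, 3, 0, 4, 2, 4], .stab 6 true [7, 3, 4, 1, 2, 4, 6, 1, 3, 4, 3, 0, 2, 0, 3, 4], .stab 7 true [6, 3, 4, 3, 0, 4, 6, 1, 3, 1, 2, 1, 4, 4, 2, 5, 2], .stab 12 true [6, 2, 0, 4, 3, 0, 4, 6, 0, 2, 4, 2, 0, 2, 4, 1, 3, 4, 1], .stab 12 true [6, 1, 4, 3, 0, 4, 6, 2, 1, 2, 2, 5, 0, 3, 3, 4, 4], .stab 8 true [7, 0, 4, 3, 0, 4, 6, 3, 4, 2, 2, 4, 0,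 3, 1, 3, 3], .stab 6 true [7, 0, 3, 4, 3, 0, 4, 6, 0, 3, 1, 3, 3, 1, 2, 4, 0, 4], .step 10 [2, 11, 13, 6, 15, 2, 13], .tok])
  , (⟨3, [2, 0, 5, 2, 0, 4, 6, 2, 1, 4, 3, 5, 0, 4, 0, 0], true, 1, [3, 3, 1, 4, 6, 3, 4, 4, 1, 2, 4, 4]⟩, .scan 0 1 [3, 3, 1, 4, 6, 3, 4, 4, 1, 2, 4, 4] [.tok, .step 40 []])
  , (⟨2, [6, 0, 0, 2, 0, 3], true, 3, [5, 0, 5, 6, 2, 0, 4, 0, 5, 2, 1, 3, 4, 0]⟩, .scan 6 3 [5, 0, 5, 6, 2, 0, 4, 0, 5, 2, 1, 3, 4, 0] [.tok, .step 41 [13, 11, 2, 13, 1, 11], .tok, .stab 6 false [7, 2, 1, 4, 3, 0, 4, 6, 2, 5, 2, 0, 5, 5, 0, 3, 4], .stab 7 false [6, 2, 0, 4, 3, 0, 4, 6, 2, 5, 2, 0, 5, 5, 0, 3, 4], .stab 12 false [6, 3, 4, 3, 0, 4, 6, 3, 5, 3, 4, 3, 1, 3, 3, 5, 5], .stab 7 false [7, 3,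 4, 1, 2, 4, 6, 3, 0, 2, 1, 2, 4, 2, 5, 2, 5, 1], .stab 6 false [6, 4, 3, 0, 4, 6, 2, 4, 4, 1, 4, 3, 0, 4], .stab 6 true [7, 3, 4, 1, 2, 4, 6, 3, 0, 2, 1, 2, 4, 2, 5, 2, 5, 1], .stab 7 true [6, 3, 4, 3, 0, 4, 6, 3, 5, 3, 4, 3, 1, 3, 3, 5, 5], .stab 12 true [6, 2, 0, 4, 3, 0, 4, 6, 2, 5, 2, 0, 5, 5, 0, 3, 4], .stab 12 true [6, 1, 4, 3, 0, 4, 6, 0, 0, 4, 3, 5, 0, 3, 1, 2], .stab 8 true [7, 0, 4, 3, 0, 4, 6, 3, 3, 4, 1, 2, 4, 2, 1, 2, 4], .stab 6 true [7, 0, 3, 4, 3, 0, 4, 6, 2, 1, 5, 3, 4, 0, 4, 1, 3, 1], .step 10 [1, 1, 12, 14, 6], .tok, .stab 12 false [0, 3, 4, 1, 5, 6, 3, 3, 0, 2, 2, 1], .stab 8 false [4, 0, 4, 3, 4, 4, 6, 0, 0, 3, 3, 0, 2, 2], .stab 6 false [4, 3, 4, 2, 0, 4, 6, 1, 1, 3], .stab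 7 false [4, 3, 0, 5, 5, 2, 4, 6, 0, 0, 3, 0, 2, 0, 3], .stab 7 false [5, 3, 5, 2, 0, 5, 6, 0, 0, 3], .stab 8 false [7, 5, 2, 5, 0, 4, 6, 0, 0, 4, 2, 5, 0, 2, 4, 4, 2], .stab 7 false [1, 5, 1, 5, 3, 5, 6, 0, 0, 2, 0, 3], .stab 8 false [6, 1, 3], .step 13 [10, 10, 12], .tok])
  , (⟨3, [5, 0, 5, 6, 2, 0, 4, 0, 5, 2, 1, 3, 4, 0], true, 2, [6, 1, 1, 2, 1, 3]⟩, .scan 0 2 [6, 1, 1, 2, 1, 3] [.tok, .step 42 []])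
  , (⟨3, [5, 1, 4, 1, 4, 6, 4, 1, 5, 1, 5, 0, 3], true, 1, [5, 1, 3, 3, 5, 6, 0, 5, 3, 0, 5, 2]⟩, .scan 5 1 [5, 1, 3, 3, 5, 6, 0, 5, 3, 0, 5, 2] [.tok, .stab 8 false [6, 0, 3, 4, 3, 0, 4, 6, 4, 4, 3, 3, 0, 3, 1, 4, 1], .stab 6 false [5, 6, 0, 4, 3, 0, 4, 6, 0, 2, 2, 0, 5, 5, 3, 5, 3, 0, 5], .stab 12 false [7, 2, 1, 4, 3, 0, 4, 6, 4, 3, 1, 2, 5, 0, 2, 1, 4, 4], .stab 12 false [7, 3, 4, 1, 2, 4, 6, 0, 5, 3, 4, 0, 4, 3, 5, 5], .stab 6 false [6, 4, 3, 0, 4, 6, 2, 5, 2, 0, 5, 0, 0, 3, 3], .stab 6 true [7, 3, 4, 1, 2, 4, 6, 0, 5, 3, 4, 0, 4, 3, 5, 5], .stab 7 true [6, 3, 4, 3, 0, 4, 6, 0, 5, 2, 1, 2, 2, 5, 0, 2, 0], .stab 12 true [6, 2, 0, 4, 3, 0, 4, 6, 1, 5, 3, 0, 4, 0, 3, 3], .stab 12 true [6, 1, 4,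 3, 0, 4, 6, 3, 0, 4, 4, 2, 4, 4], .stab 8 true [7, 0, 4, 3, 0, 4, 6, 1, 1, 4, 2, 5, 2, 2, 1, 3], .stab 6 true [7, 0, 3, 4, 3, 0, 4, 6, 0, 2, 0, 3, 1, 3, 4], .step 10 [10, 12, 5, 11, 15, 4, 12], .tok, .stab 7 false [2, 5, 5, 1, 4, 6, 0, 2, 1, 3, 3, 1, 3], .stab 12 false [2, 2, 4, 1, 2, 0, 4, 6, 1, 2, 1, 2, 2, 1, 3], .stab 6 false [7, 5, 3, 5, 3, 0, 4, 6, 1, 2, 4, 1, 1, 2, 4, 1, 2, 2], .stab 12 false [1, 4, 1, 5, 3, 4, 6, 2, 0, 2, 2, 1, 2, 2, 1, 2], .stab 12 false [7, 5, 2, 5, 0, 4, 6, 0, 4, 0, 2, 2, 0, 2, 4, 1, 4, 3], .stab 7 false [1, 5, 1, 5, 3, 5, 6, 0, 3, 0, 2, 2], .stab 8 false [6, 0, 2, 0, 3, 3], .step 13 [13, 15], .tok, .stab 19 false [2, 4, 1, 2, 0, 4, 6, 3, 4, 1, 3, 4, 2, 2, 0, 3, 5, 3],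 .stab 19 false [0, 0, 3, 0, 2], .stab 19 true [2, 4, 1, 2, 0, 4, 6, 3, 4, 1, 3, 4, 2, 2, 0, 3, 5, 3], .stab 19 true [6, 1, 3, 1, 2, 2], .step 42 [15], .tok])
  , (⟨1, [5, 1, 3, 3, 5, 6, 0, 5, 3, 0, 5, 2], true, 3, [5, 1, 4, 1, 4, 6, 0, 5, 5, 0, 5, 1, 5, 3]⟩, .scan 0 3 [5, 1, 4, 1, 4, 6, 0, 5, 5, 0, 5, 1, 5, 3] [.tok, .step 44 []])
  , (⟨3, [2, 0, 5, 2, 0, 4, 6, 5, 1, 3, 5, 2, 0], false, 3, [5, 1, 4, 1, 4, 6, 0, 5, 5, 0, 5, 1, 5, 3]⟩, .cmp 1 [5, 1, 3, 3, 5, 6, 0, 5, 3, 0, 5, 2] [.stab 8 false [2, 1, 2, 5, 2, 4, 6, 2, 1, 4, 3, 0, 4, 0, 3, 1, 3], .stab 6 false [1, 4, 1, 3, 3, 4, 6, 0, 2, 2, 5, 1, 2, 5, 0, 3, 0, 3], .stab 6 false [2, 2, 0, 2, 5, 1, 4, 6, 2, 1, 5, 3, 0, 5, 3, 3, 1, 3], .stab 12 false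 [4, 4, 3, 5, 2, 1, 4, 6, 0, 0, 3, 4, 0, 2, 5, 5, 2], .stab 12 false [3, 5, 0, 4, 0, 5, 6, 4, 0, 5, 1, 2, 1, 4, 4], .stab 6 false [6, 1, 4, 2, 2, 0, 2, 2, 4, 4, 2], .stab 12 true [3, 3, 5, 0, 4, 6, 1, 5, 3, 0, 5, 2, 0, 2, 1], .stab 6 true [4, 6, 4, 4, 1, 4, 6, 2, 5, 1, 3, 3, 5, 3, 5, 3], .stab 12 true [5, 6, 5, 0, 4, 3, 4, 6, 3, 0, 2, 0, 5, 3, 1, 4, 3, 5], .stab 12 true [3, 3, 0, 4, 6, 0, 5, 1, 2, 5, 2, 2, 1, 3, 3], .stab 7 true [3, 3, 1, 4, 6, 0, 5, 1, 2, 5, 2, 2, 1, 3, 3], .step 40 [0, 11, 8, 13, 1, 1]] [.step 45 []])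
  , (⟨2, [6, 1, 4, 3, 0, 4, 6, 2, 1, 2, 4, 4, 2, 1, 3, 5], true, 3, [2, 4, 2, 4, 6, 5, 0, 4, 2, 5, 0, 3, 0, 2, 2]⟩, .scan 3 3 [2, 4, 2, 4, 6, 5, 0, 4, 2, 5, 0, 3, 0, 2, 2] [.tok, .stab 46 false [5, 1, 4, 1, 4, 6, 0, 5, 3, 4, 3, 0, 5, 2, 4, 2], .stab 46 true [2, 0, 5, 2, 0, 4, 6, 3, 0, 2, 5, 0, 5, 2, 4, 2, 5], .step 41 [13, 15, 13, 5, 15, 2], .tok, .stab 12 false [2, 1, 5, 3, 3, 4, 6, 5, 3, 4, 0, 4, 0, 0, 3, 3], .stab 12 false [0, 3, 0, 4, 6, 1, 2, 2, 1, 5, 3, 0, 5, 2, 2, 4], .stab 8 false [3, 3, 4, 3, 4, 6, 3, 0, 3, 4, 3, 0, 4, 3, 5, 5, 0], .stab 7 false [0, 5, 2, 1, 3, 4, 6, 1, 2, 1, 5, 1, 2, 5, 0, 5, 1], .stab 12 false [1, 5, 1, 5, 3, 5, 6, 0, 0, 3, 4, 0, 5, 2, 0, 2, 2], .stab 8 false [6, 3, 3,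 5, 5, 1, 5, 2, 0, 2, 2], .step 13 [0, 12, 14, 5, 7, 10, 12], .tok])
  , (⟨3, [2, 4, 2, 4, 6, 5, 0, 4, 2, 5, 0, 3, 0, 2, 2], true, 2, [6, 1, 4, 3, 0, 4, 6, 2, 0, 2, 4, 2, 1, 3, 4, 4]⟩, .scan 0 2 [6, 1, 4, 3, 0, 4, 6, 2, 0, 2, 4, 2, 1, 3, 4, 4] [.tok, .step 47 []])
  , (⟨3, [5, 7, 4, 6, 4, 0, 4, 6, 3, 0, 2, 4, 2, 4, 1, 2, 1, 5], true, 1, [5, 0, 3, 5, 0, 4, 6, 0, 3, 4, 3, 1, 4, 3, 4, 3, 1, 4]⟩, .scan 11 1 [5, 0, 3, 5, 0, 4, 6, 0, 3, 4, 3, 1, 4, 3, 4, 3, 1, 4] [.tok, .step 13 [7, 12, 7, 14, 6], .tok, .stab 15 false [5, 1, 3, 1, 5, 0, 4, 6, 2, 2, 4, 1, 3, 1, 5, 5, 1], .stab 19 false [5, 2, 4, 3, 0, 4, 6, 2, 0, 5, 0, 5, 1, 4], .stab 16 false [2, 5, 3, 0, 2, 2, 4, 6, 1, 2, 2, 4, 1, 2, 2, 1, 5, 2, 1], .stab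 19 false [7, 1, 3, 4, 6, 3, 0, 5, 5, 3, 3, 0, 5, 5, 2, 2], .stab 16 false [6, 1, 2, 0, 4, 6, 2, 4, 0, 3, 1, 4, 4, 3, 3, 5], .stab 19 false [1, 4, 7, 2, 4, 6, 2, 2, 4, 0, 5, 2, 0, 3, 0, 3, 3, 5], .stab 19 false [3, 5, 6, 2, 2, 5, 0, 2, 1, 3, 5, 1, 3, 4], .stab 15 true [1, 3, 3, 5, 6, 2, 2, 5, 0, 4, 2, 1, 3, 1, 5, 0], .stab 16 true [5, 3, 0, 4, 6, 2, 0, 3, 5, 3, 1, 3, 5, 1, 4, 4], .stab 19 true [6, 3, 5, 5, 0, 4, 6, 3, 3, 1, 5, 2, 1, 2, 5, 2, 1], .stab 16 true [3, 5, 3, 5, 2, 2, 4, 6, 0, 5, 3, 3, 0, 5, 2, 0, 5, 3, 5], .stab 19 true [6, 0, 5, 2, 5, 1, 4, 6, 2, 0, 3, 4, 0, 5, 3, 1], .stab 16 true [1, 4, 0, 5, 2, 1, 4, 6, 0, 3, 5, 3, 5, 5, 1, 2, 2, 5], .step 27 [3, 12, 3, 14, 11, 7, 12], .tok, .stab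 16 false [4, 1, 3, 5, 1, 5, 6, 1, 2, 2, 1, 2, 2, 4, 0, 4, 2, 1], .stab 19 false [4, 3, 4, 1, 2, 1, 4, 6, 0, 5, 0, 3, 1, 2, 5, 0, 2, 2, 0], .stab 16 false [0, 3, 3, 4, 1, 5, 6, 1, 5, 2, 0, 5, 3, 4, 0, 3, 1], .stab 15 false [1, 3, 3, 4, 1, 5, 6, 2, 5, 3, 0, 2, 1, 5, 3, 3], .stab 19 false [5, 1, 4, 2, 5, 6, 0, 5, 0, 0, 2, 0, 3, 3], .stab 16 false [2, 4, 1, 2, 0, 4, 6, 2, 1, 4, 1, 2, 1, 2, 2, 1], .stab 19 false [2, 4, 2, 5, 5, 1, 3, 5], .stab 19 true [2, 4, 1, 2, 0, 4, 6, 2, 1, 4, 1, 2, 1, 2, 2, 1], .stab 19 true [6, 3, 1, 5, 2, 2, 5, 1, 4, 4], .step 42 [10, 6, 8, 12, 6, 14], .tok])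
  , (⟨1, [5, 0, 3, 5, 0, 4, 6, 0, 3, 4, 3, 1, 4, 3, 4, 3, 1, 4], true, 3, [5, 7, 4, 6, 4, 0, 4, 6, 1, 3, 1, 2, 1, 5, 3, 5, 3, 4]⟩, .scan 0 3 [5, 7, 4, 6, 4, 0, 4, 6, 1, 3, 1, 2, 1, 5, 3, 5, 3, 4] [.tok, .step 49 []])
  , (⟨3, [2, 0, 5, 2, 0, 4, 6, 1, 3, 5, 1, 2, 5, 1, 4, 2, 2, 5], false, 3, [5, 7, 4, 6, 4, 0, 4, 6, 1, 3, 1, 2, 1, 5, 3, 5, 3, 4]⟩, .cmp 1 [5, 0, 3, 5, 0, 4, 6, 0, 3, 4, 3, 1, 4, 3, 4, 3, 1, 4] [.stab 8 false [7, 4, 6, 3, 4, 6, 2, 5, 1, 3, 1, 2, 4, 4, 2, 5, 1], .stab 8 false [3, 5, 2, 0, 2, 4, 6, 2, 1, 3, 4, 3, 3, 5, 2, 1, 5], .stab 12 false [1, 5, 2, 1, 5, 6, 1, 5, 0, 3, 3, 4, 3, 0, 2, 1], .stab 12 false [5, 7, 3, 4, 2, 4, 6, 0, 0, 4, 0, 2, 0, 4, 3, 3, 4], .stab 6 false [3, 5, 0, 4,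 0, 5, 6, 0, 5, 2, 5, 1, 2, 4, 4, 2], .stab 6 false [6, 3, 1, 5, 0, 3, 0, 4, 3, 0, 2, 1], .stab 12 true [3, 3, 5, 0, 4, 6, 0, 3, 0, 5, 2, 2, 1, 5, 5, 2, 2], .stab 6 true [4, 6, 4, 4, 1, 4, 6, 2, 5, 2, 0, 3, 1, 5, 3, 3, 5], .stab 12 true [5, 6, 5, 0, 4, 3, 4, 6, 3, 1, 3, 3, 1, 5, 2, 4, 2, 5], .stab 12 true [3, 3, 0, 4, 6, 0, 2, 5, 0, 4, 3, 0, 3, 5, 3, 0], .stab 7 true [3, 3, 1, 4, 6, 0, 2, 5, 0, 4, 3, 0, 3, 5, 3, 0], .step 40 [5, 3, 3, 12, 14, 12]] [.step 50 []])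
  , (⟨3, [3, 0, 4, 7, 1, 4, 6, 2, 5, 3, 5, 1, 4, 0, 4, 0], true, 3, [7, 0, 2, 4, 1, 4, 6, 4, 0, 3, 1, 5, 2, 5, 0, 2, 4, 2]⟩, .scan 10 3 [7, 0, 2, 4, 1, 4, 6, 4, 0, 3, 1, 5, 2, 5, 0, 2, 4, 2] [.tok, .stab 46 false [5, 1, 4, 1, 4, 6, 0, 0, 4, 3, 0, 3, 3, 5, 1, 2], .stab 51 false [3, 5, 0, 3, 0, 4, 6, 2, 1, 5, 5, 3, 3, 4, 1, 5, 2, 0], .stab 51 false [5, 1, 4, 6, 2, 5, 0, 0, 2, 0, 2, 2, 0], .stab 46 false [7, 4, 4, 3, 3, 4, 6, 3, 5, 5, 0, 2, 4, 1, 4], .stab 46 false [5, 2, 0, 2, 4, 6, 3, 5, 1, 2, 1, 5, 2, 0, 4, 3, 0], .stab 46 false [4, 2, 1, 5, 3, 4, 6, 1, 2, 5, 5, 1, 5, 2, 4, 2, 1], .stab 46 false [5, 6, 0, 2, 1, 3, 4, 0, 5, 3, 0, 2, 1], .stab 46 true [4, 2, 1, 5, 3, 4, 6, 1, 2, 5, 5, 1, 5, 2, 4,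 2, 1], .stab 46 true [5, 2, 0, 2, 4, 6, 3, 5, 1, 2, 1, 5, 2, 0, 4, 3, 0], .stab 46 true [7, 4, 4, 3, 3, 4, 6, 3, 5, 5, 0, 2, 4, 1, 4], .stab 46 true [5, 1, 4, 6, 2, 5, 0, 0, 2, 0, 2, 2, 0], .stab 51 true [3, 5, 0, 3, 0, 4, 6, 2, 1, 5, 5, 3, 3, 4, 1, 5, 2, 0], .stab 51 true [5, 1, 4, 1, 4, 6, 0, 0, 4, 3, 0, 3, 3, 5, 1, 2], .stab 46 true [2, 0, 5, 2, 0, 4, 6, 3, 3, 5, 5, 1, 2, 1, 5, 5], .step 41 [10, 12, 0, 6, 15, 13], .tok, .stab 8 false [4, 3, 4, 0, 5, 0, 4, 6, 0, 3, 5, 1, 2, 5, 0, 4, 2, 2, 0, 2], .stab 6 false [5, 0, 2, 0, 4, 6, 2, 5, 0, 4, 2, 5, 2, 0, 3, 1, 5], .stab 6 false [4, 4, 2, 5, 2, 4, 6, 0, 5, 2, 1, 3, 1, 3, 3, 5, 1, 5], .stab 7 false [5, 6, 2, 5, 3, 4, 6, 0, 2, 4, 1, 5, 3, 5, 0, 3, 3,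 0, 2], .stab 8 false [5, 6, 2, 4, 4, 3, 4, 6, 2, 4, 0, 0, 2, 5, 3, 4, 0, 3], .stab 8 false [3, 5, 0, 4, 0, 5, 6, 0, 3, 5, 1, 2, 5, 0, 4, 2, 2, 0, 2], .stab 6 false [6, 0, 5, 3, 0, 4, 2, 4, 0, 3, 5], .step 13 [5, 12, 11, 2, 13], .tok, .stab 15 false [3, 0, 4, 2, 4, 6, 2, 1, 3, 4, 0, 3, 3, 0, 3, 4, 0], .stab 19 false [5, 6, 3, 3, 4, 6, 2, 0, 2, 4, 2, 0, 4, 2, 4, 1, 3], .stab 15 false [2, 1, 4, 6, 2, 4, 6, 1, 5, 3, 5, 1, 2, 5, 1, 5, 5], .stab 15 false [4, 0, 5, 7, 1, 4, 6, 0, 0, 5, 3, 0, 5, 2, 4, 2, 4], .stab 16 false [4, 4, 7, 2, 0, 4, 6, 5, 1, 5, 3, 0, 5, 0, 3, 5], .stab 19 false [5, 2, 0, 5, 1, 5, 6, 2, 1, 4, 4, 3, 1, 2, 1], .stab 16 false [2, 2, 5, 1, 5, 6, 0, 4, 0, 0, 3, 5, 2, 5, 5], .stab 19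 false [7, 5, 5, 6, 1, 4, 6, 0, 2, 1, 5, 1, 4, 0, 5, 5], .stab 15 false [1, 5, 1, 5, 6, 2, 5, 5, 2, 0, 4, 3, 1, 3], .step 38 [10, 10, 14, 12, 3, 4], .tok])
  , (⟨3, [7, 2, 1, 4, 6, 2, 4, 2, 0, 2, 2, 0, 2, 4, 1, 5], true, 3, [7, 3, 4, 2, 1, 4, 6, 1, 5, 3, 3, 0, 4, 3, 1, 4, 2, 4]⟩, .scan 10 3 [7, 3, 4, 2, 1, 4, 6, 1, 5, 3, 3, 0, 4, 3, 1, 4, 2, 4] [.tok, .stab 46 false [1, 5, 6, 2, 2, 4, 6, 4, 0, 3, 3, 4, 2, 1, 2, 4], .stab 46 false [3, 5, 2, 1, 5, 6, 1, 3, 1, 4, 2, 2, 1, 4, 3, 4, 1], .stab 51 false [1, 4, 1, 3, 4, 1, 4, 6, 2, 0, 3, 1, 5, 2, 4, 2, 4, 0], .stab 51 false [4, 1, 2, 5, 0, 4, 6, 2, 5, 3, 5, 2, 2, 5, 0], .stab 51 false [5, 5, 7, 1, 2, 0, 4, 6, 2, 2, 4, 0, 3, 3, 5, 3, 1, 5], .stab 46 false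 [1, 2, 5, 0, 5, 1, 4, 6, 2, 2, 0, 5, 2, 4, 3, 5, 0], .stab 46 false [3, 5, 5, 2, 0, 4, 6, 2, 2, 1, 5, 3, 3, 5, 2, 4], .stab 46 false [2, 0, 4, 1, 4, 6, 0, 5, 5, 0, 2, 0, 5, 0, 5], .stab 46 false [0, 3, 5, 0, 3, 5, 6, 3, 3, 4, 4, 1, 2, 5, 2, 1], .stab 51 false [6, 0, 3, 4, 3, 1, 3, 3, 5, 0, 3, 0], .stab 51 true [0, 3, 5, 0, 3, 5, 6, 3, 3, 4, 4, 1, 2, 5, 2, 1], .stab 46 true [2, 0, 4, 1, 4, 6, 0, 5, 5, 0, 2, 0, 5, 0, 5], .stab 46 true [3, 5, 5, 2, 0, 4, 6, 2, 2, 1, 5, 3, 3, 5, 2, 4], .stab 46 true [1, 2, 5, 0, 5, 1, 4, 6, 2, 2, 0, 5, 2, 4, 3, 5, 0], .stab 46 true [5, 5, 7, 1, 2, 0, 4, 6, 2, 2, 4, 0, 3, 3, 5, 3, 1, 5], .stab 51 true [4, 1, 2, 5, 0, 4, 6, 2, 5, 3, 5, 2, 2, 5, 0], .stab 51 true [1, 4,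 1, 3, 4, 1, 4, 6, 2, 0, 3, 1, 5, 2, 4, 2, 4, 0], .stab 51 true [3, 5, 2, 1, 5, 6, 1, 3, 1, 4, 2, 2, 1, 4, 3, 4, 1], .stab 46 true [1, 5, 6, 2, 2, 4, 6, 4, 0, 3, 3, 4, 2, 1, 2, 4], .stab 46 true [2, 4, 2, 4, 6, 2, 5, 5, 2, 4, 0, 4, 0, 0], .step 48 [11, 3, 13, 1, 14, 12], .tok, .stab 19 false [4, 1, 5, 5, 2, 4, 6, 2, 4, 0, 3, 4, 3, 0, 2, 1, 4], .stab 19 false [1, 2, 4, 3, 3, 4, 6, 3, 1, 5, 5, 1, 2, 4, 2], .stab 16 false [3, 4, 3, 3, 4, 6, 2, 1, 2, 5, 5, 2, 2, 1, 3, 3], .stab 19 false [5, 6, 4, 1, 2, 0, 4, 6, 2, 0, 3, 5, 1, 4, 0, 3, 1, 3], .stab 16 false [7, 5, 5, 2, 0, 4, 6, 0, 5, 2, 1, 4, 3, 3, 5, 3, 1, 2], .stab 15 false [5, 0, 3, 5, 2, 4, 6, 4, 2, 4, 3, 3, 1, 3, 3, 4], .stab 19 false [5, 1, 2,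 5, 6, 0, 2, 4, 2, 5, 5, 2, 5, 0, 5], .stab 16 false [2, 1, 4, 3, 0, 4, 6, 0, 0, 4, 2, 2, 4, 2], .stab 19 false [3, 5, 1, 5, 6, 1, 1, 5, 1, 5, 3, 5, 3, 0, 2], .stab 16 true [5, 2, 0, 3, 3, 5, 6, 2, 2, 4, 2, 1, 3, 3, 5, 0, 3, 0], .stab 16 true [3, 4, 4, 0, 4, 6, 5, 0, 3, 3, 5, 0, 4, 4, 2], .stab 19 true [5, 2, 1, 5, 2, 2, 4, 6, 2, 4, 2, 2, 1, 3, 5, 3, 0, 5], .stab 16 true [1, 5, 3, 5, 1, 4, 6, 2, 4, 1, 4, 2, 2, 0, 5, 3, 3], .stab 19 true [3, 4, 7, 0, 4, 6, 3, 5, 3, 3, 0, 2, 5, 2, 4], .stab 16 true [7, 0, 4, 0, 4, 6, 2, 5, 2, 0, 3, 4, 1, 3], .stab 15 true [7, 0, 2, 5, 2, 0, 4, 6, 1, 4, 2, 5, 2, 5, 1, 2, 2], .stab 19 true [3, 1, 5, 7, 3, 4, 6, 2, 5, 2, 1, 5, 3, 5, 0, 2, 5], .stab 16 true [2, 2, 4, 7,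 2, 4, 6, 3, 3, 0, 4, 2, 5, 2, 2, 0], .step 23 [], .tok, .stab 15 false [5, 3, 0, 3, 5, 6, 4, 1, 5, 3, 0, 3, 4, 3, 3, 0], .stab 16 false [1, 3, 4, 2, 5, 6, 2, 2, 5, 2, 1, 2, 4, 1, 4, 4, 3], .stab 19 false [3, 4, 2, 2, 4, 6, 2, 1, 3, 5, 1, 3, 3, 5, 0, 4, 3, 3], .stab 16 false [1, 5, 0, 3, 4, 1, 4, 6, 4, 3, 4, 3, 0, 2, 5, 3], .stab 19 false [4, 3, 3, 5, 1, 5, 6, 5, 5, 1, 5, 1, 2, 5, 0], .stab 15 false [7, 5, 5, 6, 1, 4, 6, 2, 2, 4, 0, 3, 0, 2, 1, 5, 0, 2], .stab 15 false [1, 5, 1, 5, 6, 1, 3, 4, 1, 5, 2, 2], .step 38 [0, 7, 13, 6, 15], .tok])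
  , (⟨3, [1, 5, 6, 0, 4, 6, 1, 2, 2, 1, 3, 3, 4, 4], true, 3, [4, 4, 6, 5, 5, 0, 4, 6, 0, 2, 1, 5, 2, 0, 4, 2, 1]⟩, .scan 12 3 [4, 4, 6, 5, 5, 0, 4, 6, 0, 2, 1, 5, 2, 0, 4, 2, 1] [.tok, .stab 46 false [1, 5, 6, 2, 2, 4, 6, 2, 5, 2, 5, 1, 3, 4, 1, 2, 2], .stab 46 false [3, 5, 2, 1, 5, 6, 0, 2, 0, 5, 2, 2, 1, 3, 5, 3, 0], .stab 51 false [1, 4, 1, 3, 4, 1, 4, 6, 0, 2, 0, 5, 3, 3, 5, 5, 3, 4, 0], .stab 51 false [4, 1, 2, 5, 0, 4, 6, 2, 0, 3, 0, 4, 2, 5, 2, 2, 0], .stab 51 false [5, 5, 7, 1, 2, 0, 4, 6, 0, 2, 0, 3, 0, 3, 3, 4, 1, 5, 3, 3], .stab 46 false [1, 2, 5, 0, 5, 1, 4, 6, 0, 0, 5, 3, 3, 4, 1, 5, 3, 1], .stab 46 false [3, 5, 5, 2, 0, 4, 6, 0, 5, 5, 3, 4, 0, 5, 3, 1, 3], .stab 46 false [2, 0, 4,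 1, 4, 6, 2, 4, 2, 0, 5, 5, 3, 4, 0, 4], .stab 46 false [0, 3, 5, 0, 3, 5, 6, 0, 3, 0, 2, 1, 2, 2, 4, 1, 2, 4], .stab 51 false [6, 0, 3, 5, 0, 3, 3, 5, 1, 3, 1, 2], .stab 51 true [0, 3, 5, 0, 3, 5, 6, 0, 3, 0, 2, 1, 2, 2, 4, 1, 2, 4], .stab 46 true [2, 0, 4, 1, 4, 6, 2, 4, 2, 0, 5, 5, 3, 4, 0, 4], .stab 46 true [3, 5, 5, 2, 0, 4, 6, 0, 5, 5, 3, 4, 0, 5, 3, 1, 3], .stab 46 true [1, 2, 5, 0, 5, 1, 4, 6, 0, 0, 5, 3, 3, 4, 1, 5, 3, 1], .stab 46 true [5, 5, 7, 1, 2, 0, 4, 6, 0, 2, 0, 3, 0, 3, 3, 4, 1, 5, 3, 3], .stab 51 true [4, 1, 2, 5, 0, 4, 6, 2, 0, 3, 0, 4, 2, 5, 2, 2, 0], .stab 51 true [1, 4, 1, 3, 4, 1, 4, 6, 0, 2, 0, 5, 3, 3, 5, 5, 3, 4, 0], .stab 51 true [3, 5, 2, 1, 5, 6, 0, 2, 0, 5, 2, 2, 1,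 3, 5, 3, 0], .stab 46 true [1, 5, 6, 2, 2, 4, 6, 2, 5, 2, 5, 1, 3, 4, 1, 2, 2], .stab 46 true [2, 4, 2, 4, 6, 2, 2, 0, 3, 4, 2, 2, 0, 3, 1], .step 48 [5, 10, 12, 10, 15, 6], .tok, .stab 15 false [2, 4, 1, 5, 2, 4, 6, 4, 4, 2, 5, 2, 5, 1, 3, 1], .stab 16 false [3, 5, 7, 5, 1, 4, 6, 3, 0, 2, 5, 0, 3, 5, 0, 2], .stab 19 false [6, 1, 3, 0, 4, 6, 3, 3, 4, 0, 5, 5, 3, 3, 4, 0, 3], .stab 16 false [3, 5, 6, 4, 6, 0, 3, 0, 5, 3, 5, 3, 0, 5, 3], .stab 19 false [5, 5, 7, 4, 3, 4, 6, 2, 1, 3, 5, 3, 0, 4, 2, 2, 5], .stab 16 false [7, 3, 4, 0, 2, 2, 4, 6, 0, 2, 5, 0, 2, 2, 5, 0, 5, 2], .stab 19 false [1, 2, 5, 6, 1, 2, 1, 3, 5, 0, 2, 4, 4], .stab 15 false [3, 3, 5, 6, 2, 0, 5, 2, 2, 0, 2, 2, 5, 5], .stab 15 true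 [1, 2, 5, 6, 1, 2, 1, 3, 5, 0, 2, 4, 4], .stab 19 true [7, 3, 4, 0, 2, 2, 4, 6, 0, 2, 5, 0, 2, 2, 5, 0, 5, 2], .stab 15 true [5, 3, 4, 1, 5, 6, 0, 0, 0, 5, 2], .stab 16 true [4, 6, 0, 5, 0, 4, 6, 1, 4, 1, 2, 4, 2, 2, 5, 5, 1], .stab 19 true [7, 3, 4, 4, 6, 0, 4, 6, 2, 2, 1, 2, 2, 5, 2, 0, 5], .stab 16 true [5, 2, 4, 4, 0, 4, 6, 2, 2, 5, 2, 0, 2, 4, 0, 4, 3], .stab 19 true [4, 3, 4, 6, 1, 3, 1, 5, 5, 3, 3, 4, 1, 5], .stab 19 true [6, 3, 4, 1, 4, 6, 1, 2, 4, 2, 1, 2, 5, 2, 1, 4], .stab 19 true [4, 2, 4, 2, 1, 4, 6, 0, 2, 0, 4, 3, 5, 3, 4, 2], .stab 15 true [5, 3, 1, 5, 3, 5, 6, 4, 4, 0, 2, 4, 2, 1, 4], .step 33 [14, 13, 0, 14], .tok, .stab 19 false [4, 7, 1, 2, 0, 4, 6, 2, 4, 4, 1, 4, 3, 3, 5, 1,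 5], .stab 19 false [6, 5, 6, 4, 2, 0, 4, 6, 0, 4, 0, 0, 3, 0, 2, 4, 2, 0, 2], .stab 19 false [2, 0, 2, 5, 1, 5, 6, 5, 0, 5, 5, 3, 5, 3, 0, 2, 1], .stab 15 false [5, 2, 0, 5, 1, 5, 6, 2, 2, 0, 4, 3, 5, 1, 2, 1, 2], .stab 16 false [2, 2, 5, 1, 5, 6, 5, 0, 5, 5, 3, 5, 3, 0, 2, 1], .stab 19 false [7, 5, 5, 6, 1, 4, 6, 2, 2, 0, 3, 0, 2, 4, 2, 4, 4], .stab 15 false [1, 5, 1, 5, 6, 5, 5, 1, 3, 1, 2, 2, 4, 4], .step 38 [0, 0, 13, 15, 0, 0], .tok])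
  , (⟨2, [4, 2, 5, 6, 0, 0, 0, 0, 2], true, 4, []⟩, .tree)
  , (⟨4, [], true, 2, [4, 2, 5, 6, 1, 1, 2]⟩, .scan 0 2 [4, 2, 5, 6, 1, 1, 2] [.tok, .step 55 []])
  , (⟨4, [0, 2, 5, 6, 2, 0, 4, 6, 2, 0, 4, 2, 4, 0, 3, 3], true, 1, [1, 1, 5, 6, 2, 4, 6, 0, 2, 5, 1, 4, 2, 5, 2, 1, 3]⟩, .scan 10 1 [1, 1, 5, 6, 2, 4, 6, 0, 2, 5, 1, 4, 2, 5, 2, 1, 3] [.tok, .stab 6 false [7, 0, 4, 3, 0, 4, 6, 2, 0, 2, 1, 4, 3, 0, 5, 3, 3, 4], .stab 8 false [6, 1, 4, 3, 0, 4, 6, 1, 1, 2, 2, 1, 2, 4, 3, 3], .stab 12 false [6, 2, 0, 4, 3, 0, 4, 6, 4, 1, 5, 2, 1, 3, 3, 1, 3, 4], .stab 12 false [6, 3, 4, 3, 0, 4, 6, 2, 0, 2, 2, 5, 1, 2, 1, 5, 1, 4], .stab 7 false [7, 3, 4, 1, 2, 4, 6, 0, 2, 0, 3, 1, 3, 3, 5, 0, 3, 5, 3, 5], .stab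 6 false [6, 4, 3, 0, 4, 6, 3, 5, 0, 0, 0, 4, 3, 3, 4, 3], .stab 6 true [7, 3, 4, 1, 2, 4, 6, 0, 2, 0, 3, 1, 3, 3, 5, 0, 3, 5, 3, 5], .stab 7 true [6, 3, 4, 3, 0, 4, 6, 2, 0, 2, 2, 5, 1, 2, 1, 5, 1, 4], .stab 12 true [6, 2, 0, 4, 3, 0, 4, 6, 4, 1, 5, 2, 1, 3, 3, 1, 3, 4], .stab 12 true [6, 1, 4, 3, 0, 4, 6, 1, 1, 2, 2, 1, 2, 4, 3, 3], .stab 8 true [7, 0, 4, 3, 0, 4, 6, 2, 0, 2, 1, 4, 3, 0, 5, 3, 3, 4], .stab 6 true [7, 0, 3, 4, 3, 0, 4, 6, 3, 5, 3, 4, 0, 3, 3, 0, 3, 1], .step 10 [6, 15, 13, 11, 6], .tok, .stab 8 false [5, 0, 2, 2, 5, 6, 4, 0, 4, 0, 3, 0, 3, 3, 1], .stab 7 false [7, 4, 3, 5, 1, 4, 6, 3, 5, 1, 5, 5, 2, 5, 2, 1], .stab 7 false [4, 0, 2, 2, 4, 6, 5, 0, 5, 1, 3, 1, 3, 3, 1], .stab 12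 false [5, 6, 2, 4, 4, 3, 4, 6, 0, 2, 5, 0, 3, 3, 5, 5, 3, 0, 2], .stab 8 false [3, 5, 0, 4, 0, 5, 6, 3, 4, 1, 1, 3, 4, 2, 4], .stab 6 false [6, 0, 5, 0, 2, 2, 0, 2, 5], .step 13 [2, 14, 4, 12, 5, 10], .tok, .stab 19 false [5, 3, 5, 2, 0, 5, 6, 0, 2, 5, 1, 3, 5, 3, 0, 3, 5, 1], .stab 19 false [7, 2, 0, 5, 1, 4, 6, 0, 3, 1, 3, 5, 1, 3, 3, 4, 0], .stab 19 false [3, 4, 7, 2, 4, 6, 1, 4, 4, 1, 2, 4, 3, 3, 4], .stab 16 false [5, 6, 2, 2, 4, 4, 6, 5, 3, 3, 4, 1, 4, 2, 2], .stab 19 false [0, 3, 4, 2, 0, 4, 6, 2, 0, 4, 4, 3, 0, 3, 5, 1, 4], .stab 16 false [4, 2, 5, 6, 2, 4, 1, 3, 1, 3, 4, 3, 3], .step 55 [0, 4, 13, 0, 15, 1], .tok])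
  , (⟨1, [1, 1, 5, 6, 2, 4, 6, 0, 2, 5, 1, 4, 2, 5, 2, 1, 3], true, 4, [0, 2, 5, 6, 2, 0, 4, 6, 3, 4, 2, 1, 3, 4, 0, 2, 2]⟩, .scan 0 4 [0, 2, 5, 6, 2, 0, 4, 6, 3, 4, 2, 1, 3, 4, 0, 2, 2] [.tok, .step 57 []])
  , (⟨4, [4, 7, 3, 3, 0, 4, 6, 1, 3, 5, 1, 2, 4, 4, 1], true, 2, [7, 5, 2, 1, 4, 6, 0, 4, 4, 2, 5, 0, 5, 2, 4, 2, 1]⟩, .scan 10 2 [7, 5, 2, 1, 4, 6, 0, 4, 4, 2, 5, 0, 5, 2, 4, 2, 1] [.tok, .step 14 [2, 7, 12, 14, 12], .tok, .stab 12 false [6, 1, 4, 3, 0, 4, 6, 0, 4, 2, 5, 2, 0, 5, 3, 1, 2], .stab 12 false [6, 2, 0, 4, 3, 0, 4, 6, 1, 3, 4, 1, 2, 4, 4, 1], .stab 12 false [6, 3, 4, 3, 0, 4, 6, 2, 5, 1, 4, 2, 2, 4, 2, 1, 2, 4], .stab 6 false [7, 4, 3, 0, 4, 6, 1, 2, 4, 2, 5, 3, 1, 3, 4, 3], .stab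 8 false [6, 4, 3, 0, 4, 6, 0, 5, 2, 0, 3, 3, 4, 2, 1, 4], .stab 6 true [7, 3, 4, 1, 2, 4, 6, 1, 1, 4, 2, 1, 4, 3, 1, 2, 5], .stab 7 true [6, 3, 4, 3, 0, 4, 6, 4, 3, 5, 0, 0, 3, 0, 2, 5, 0], .stab 12 true [6, 2, 0, 4, 3, 0, 4, 6, 0, 0, 2, 2, 5, 0, 3, 5], .stab 12 true [6, 1, 4, 3, 0, 4, 6, 4, 4, 1, 2, 1, 4, 3, 3, 0, 3], .stab 8 true [7, 0, 4, 3, 0, 4, 6, 0, 5, 3, 5, 1, 2, 1, 5, 5], .stab 6 true [7, 0, 3, 4, 3, 0, 4, 6, 5, 3, 0, 5, 3, 3, 1, 2, 1], .step 10 [2, 14, 6, 12, 7, 14], .tok, .stab 8 false [7, 3, 1, 4, 0, 4, 6, 2, 4, 1, 5, 3, 5, 5, 1, 4], .stab 12 false [2, 4, 4, 6, 0, 4, 6, 0, 2, 2, 5, 1, 5, 3, 1, 5, 2, 5], .stab 7 false [2, 5, 6, 1, 4, 6, 0, 2, 2, 5, 1, 5, 3, 1, 5, 2, 5], .stab 12 false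 [7, 3, 4, 4, 6, 2, 4, 3, 5, 5, 3, 0, 3, 3, 1], .stab 6 false [3, 4, 6, 0, 4, 6, 2, 5, 2, 1, 3, 1, 4, 0, 5], .stab 12 false [1, 4, 7, 0, 4, 6, 3, 4, 1, 3, 3, 4, 1, 4, 2, 0], .stab 8 false [6, 4, 6, 3, 3, 1, 5, 1, 2, 1, 5, 2, 2], .stab 6 true [3, 0, 4, 6, 2, 4, 6, 5, 2, 4, 0, 0, 2, 5, 0, 3], .stab 12 true [1, 2, 5, 6, 2, 0, 4, 6, 0, 0, 3, 0, 5, 3, 3, 4, 3, 0, 3], .stab 12 true [4, 0, 4, 7, 4, 6, 0, 5, 2, 0, 3, 5, 5, 3, 4], .stab 7 true [2, 0, 5, 6, 1, 4, 6, 2, 5, 0, 2, 1, 3, 4, 0, 3, 3, 1, 3], .stab 12 true [4, 6, 0, 2, 0, 4, 6, 2, 5, 1, 2, 4, 0, 5, 2], .stab 6 true [2, 4, 2, 4, 7, 4, 6, 0, 2, 2, 5, 5, 0, 3, 5, 1, 2], .stab 12 true [1, 1, 5, 6, 2, 4, 6, 0, 2, 1, 3, 5, 0, 3, 5, 3, 0, 3, 4, 3], .step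 58 [0, 14, 6, 12, 10, 1], .tok])
  , (⟨2, [7, 5, 2, 1, 4, 6, 0, 4, 4, 2, 5, 0, 5, 2, 4, 2, 1], true, 4, [4, 7, 3, 3, 0, 4, 6, 1, 3, 5, 0, 2, 4, 1]⟩, .scan 0 4 [4, 7, 3, 3, 0, 4, 6, 1, 3, 5, 0, 2, 4, 1] [.tok, .step 59 []])
  , (⟨4, [4, 1, 3, 3, 5, 1, 2, 5, 1], false, 4, [4, 7, 3, 3, 0, 4, 6, 1, 3, 5, 0, 2, 4, 1]⟩, .cmp 2 [7, 5, 2, 1, 4, 6, 0, 4, 4, 2, 5, 0, 5, 2, 4, 2, 1] [.stab 16 false [4, 7, 4, 1, 2, 0, 4, 6, 3, 1, 3, 4, 3, 4, 3, 1, 4, 2], .stab 16 false [6, 5, 5, 2, 0, 4, 6, 0, 4, 4, 2, 5, 0, 5, 2, 4, 2, 1], .stab 19 false [5, 7, 1, 4, 6, 5, 3, 5, 3, 0, 2, 4, 2, 2], .stab 16 false [6, 5, 5, 2, 5, 0, 4, 6, 2, 4, 4, 2, 0, 2, 2, 4, 0, 2, 1], .stab 15 false [1, 5, 6, 3, 4, 6, 2, 2, 5, 0, 4, 3, 3,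 5, 3, 5], .stab 15 false [5, 6, 2, 2, 4, 4, 6, 4, 4, 3, 3, 5, 3, 1, 2, 4, 1], .stab 19 false [0, 3, 4, 2, 0, 4, 6, 2, 4, 2, 2, 0, 5, 2, 2, 1, 4], .stab 16 false [4, 2, 5, 6, 3, 5, 0, 4, 2, 2, 4, 0, 3, 4, 1], .step 55 [11, 2, 15, 4, 13]] [.step 60 []])
  , (⟨4, [1, 2, 5, 0, 5, 1, 4, 6, 0, 5, 0, 5, 2, 0, 2, 2, 1, 2, 2], true, 3, [4, 2, 0, 4, 1, 4, 6, 1, 5, 2, 4, 0, 3, 3, 0]⟩, .scan 13 3 [4, 2, 0, 4, 1, 4, 6, 1, 5, 2, 4, 0, 3, 3, 0] [.tok, .stab 46 false [5, 1, 4, 1, 4, 6, 0, 4, 3, 0, 3, 5, 0, 0, 2, 5], .stab 51 false [3, 5, 0, 3, 0, 4, 6, 0, 2, 0, 3, 0, 4, 1, 3, 4, 1, 3], .stab 51 false [5, 1, 4, 6, 0, 3, 5, 0, 3, 3, 5, 2, 5], .stab 46 false [7, 4, 4, 3, 3, 4, 6, 1, 2, 2, 5, 2, 1, 5, 0, 3, 1], .stab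 46 false [5, 2, 0, 2, 4, 6, 3, 4, 1, 4, 3, 1, 5, 2, 5], .stab 46 false [4, 2, 1, 5, 3, 4, 6, 2, 1, 5, 3, 5, 1, 4, 0, 2], .stab 46 false [5, 6, 0, 4, 2, 4, 1, 2, 1, 4], .stab 46 true [4, 2, 1, 5, 3, 4, 6, 2, 1, 5, 3, 5, 1, 4, 0, 2], .stab 46 true [5, 2, 0, 2, 4, 6, 3, 4, 1, 4, 3, 1, 5, 2, 5], .stab 46 true [7, 4, 4, 3, 3, 4, 6, 1, 2, 2, 5, 2, 1, 5, 0, 3, 1], .stab 46 true [5, 1, 4, 6, 0, 3, 5, 0, 3, 3, 5, 2, 5], .stab 51 true [3, 5, 0, 3, 0, 4, 6, 0, 2, 0, 3, 0, 4, 1, 3, 4, 1, 3], .stab 51 true [5, 1, 4, 1, 4, 6, 0, 4, 3, 0, 3, 5, 0, 0, 2, 5], .stab 46 true [2, 0, 5, 2, 0, 4, 6, 3, 5, 0, 2, 5, 0, 0, 2, 0, 4], .step 41 [0, 0, 12, 14, 1, 6], .tok, .stab 7 false [6, 3, 4, 1, 2, 4, 6, 5, 3, 0, 4, 3,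 3, 0, 2, 1], .stab 8 false [7, 3, 4, 1, 2, 4, 6, 0, 4, 0, 5, 2, 4, 0, 3, 0, 2], .stab 6 false [6, 4, 3, 0, 4, 6, 0, 2, 0, 3, 1, 4, 3, 5, 5, 2], .stab 6 true [7, 3, 4, 1, 2, 4, 6, 0, 4, 0, 5, 2, 4, 0, 3, 0, 2], .stab 7 true [6, 3, 4, 3, 0, 4, 6, 2, 4, 4, 2, 0, 3, 1, 5, 3, 4], .stab 12 true [6, 2, 0, 4, 3, 0, 4, 6, 0, 2, 2, 5, 1, 3, 3, 5, 1, 2], .stab 12 true [6, 1, 4, 3, 0, 4, 6, 0, 2, 4, 1, 3, 5, 5, 3, 1, 3, 4], .stab 8 true [7, 0, 4, 3, 0, 4, 6, 0, 3, 0, 4, 1, 5, 1, 4, 2, 4, 1], .stab 6 true [7, 0, 3, 4, 3, 0, 4, 6, 3, 5, 0, 3, 5, 3, 1, 2, 5, 1], .step 10 [0, 6, 12, 6, 14, 12], .tok, .stab 12 false [1, 5, 6, 0, 4, 6, 0, 5, 3, 4, 3, 5, 0, 3, 0, 2], .stab 6 false [2, 5, 7, 4, 0, 4, 6, 2, 5, 2, 5,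 0, 3, 3, 1, 3, 3], .stab 7 false [2, 4, 7, 3, 3, 4, 6, 1, 4, 2, 4, 2, 1, 4, 2, 0, 3, 3], .stab 6 false [3, 5, 6, 1, 3, 0, 4, 6, 3, 0, 2, 5, 2, 2, 1, 3, 5, 3, 1], .stab 6 false [3, 0, 4, 6, 2, 4, 6, 4, 2, 0, 2, 5, 1, 3, 5, 0, 4], .stab 6 false [6, 4, 6, 4, 1, 3, 1, 5, 2, 0, 5, 5, 2, 2], .stab 6 true [3, 0, 4, 6, 2, 4, 6, 4, 2, 0, 2, 5, 1, 3, 5, 0, 4], .stab 12 true [1, 2, 5, 6, 2, 0, 4, 6, 4, 2, 0, 2, 4, 2, 0, 3, 3, 4], .stab 12 true [4, 0, 4, 7, 4, 6, 2, 4, 0, 2, 0, 4, 3, 0, 2, 0], .stab 7 true [2, 0, 5, 6, 1, 4, 6, 2, 2, 0, 2, 2, 0, 4, 1, 4, 0], .stab 12 true [4, 6, 0, 2, 0, 4, 6, 3, 4, 0, 2, 4, 3, 4, 0], .stab 6 true [2, 4, 2, 4, 7, 4, 6, 0, 4, 1, 3, 3, 5, 5, 3, 1, 2], .stab 12 true [1, 1, 5,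 6, 2, 4, 6, 2, 5, 5, 0, 3, 1, 5, 3, 0, 2, 1], .step 58 [0, 8, 14], .tok])
  , (⟨3, [4, 2, 0, 4, 1, 4, 6, 1, 5, 2, 4, 0, 3, 3, 0], true, 4, [1, 2, 5, 0, 5, 1, 4, 6, 3, 3, 0, 5, 3, 3, 1, 4, 3]⟩, .scan 0 4 [1, 2, 5, 0, 5, 1, 4, 6, 3, 3, 0, 5, 3, 3, 1, 4, 3] [.tok, .step 62 []])
  , (⟨2, [6, 4, 4, 6, 5, 2, 0, 4, 6, 4, 1, 5, 3, 0, 3, 4, 0, 3], true, 4, [4, 2, 2, 5, 6, 4, 1, 2, 1, 4, 3, 3, 1, 5, 2]⟩, .scan 2 4 [4, 2, 2, 5, 6, 4, 1, 2, 1, 4, 3, 3, 1, 5, 2] [.tok, .step 57 [2, 4, 9, 12, 2], .tok, .stab 6 false [2, 1, 5, 0, 5, 6, 0, 2, 2, 1, 3, 1], .stab 8 false [5, 5, 3, 3, 4, 6, 1, 3, 3, 1, 2, 1], .stab 7 false [4, 3, 3, 4, 4, 6, 0, 3, 3, 0, 2, 0], .stab 8 false [3, 4, 1, 2, 0, 5, 6, 0, 2, 0, 3, 1, 2],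 .stab 6 false [2, 0, 3, 5, 0, 4, 6, 2, 1, 3, 1, 3], .stab 7 false [5, 7, 3, 4, 2, 4, 6, 3, 4, 4, 3, 0, 4, 1, 5, 1, 2], .stab 6 false [3, 5, 0, 4, 0, 5, 6, 0, 2, 2, 1, 3, 1, 2], .stab 6 false [6, 0, 2, 1, 3, 3], .step 13 [10, 10, 12, 14], .tok])
  , (⟨4, [4, 2, 2, 5, 6, 4, 1, 2, 1, 4, 3, 3, 1, 5, 2], true, 2, [6, 4, 4, 6, 5, 2, 0, 4, 6, 0, 4, 3, 5, 2, 1, 2, 5, 1]⟩, .scan 0 2 [6, 4, 4, 6, 5, 2, 0, 4, 6, 0, 4, 3, 5, 2, 1, 2, 5, 1] [.tok, .step 64 []])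
  , (⟨4, [5, 1, 4, 7, 0, 4, 6, 0, 0, 3, 0, 2, 0, 3, 4, 3, 3, 5], true, 1, [6, 5, 5, 2, 5, 0, 4, 6, 3, 4, 1, 5, 3, 0, 4]⟩, .scan 8 1 [6, 5, 5, 2, 5, 0, 4, 6, 3, 4, 1, 5, 3, 0, 4] [.tok, .stab 12 false [5, 1, 3, 1, 5, 0, 4, 1, 2], .stab 12 false [1, 4, 3, 3, 1, 4, 4, 1, 2, 5], .stab 6 true [4, 2, 2, 0, 5, 3, 3, 1, 3], .step 9 [4, 10, 12, 14, 12, 11, 4, 13], .tok, .stab 6 false [2, 5, 3, 4, 1, 4, 6, 3, 3, 0, 3, 1], .stab 8 false [2, 5, 1, 3, 1, 4, 6, 0, 3, 0, 3, 3, 1, 3, 3], .stab 12 false [0, 3, 4, 2, 4, 6, 1, 1, 3, 1, 2], .stab 12 false [4, 3, 3, 5, 5, 6, 1, 1, 2, 2, 1, 3], .stab 6 false [2, 5, 2, 0, 4, 0, 4, 6, 1, 3, 3, 1, 3], .stab 6 false [1, 5, 1, 5, 3, 5, 6, 2, 0, 3], .stab 8 false [6, 1, 1,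 1, 3], .step 13 [12], .tok, .stab 19 false [4, 3, 5, 7, 5, 1, 4, 6, 3, 5, 2, 1, 2, 5, 0, 4, 3], .stab 15 false [0, 4, 2, 2, 4, 4, 6, 1, 5, 5, 3, 5, 3, 3, 1, 5], .stab 16 false [1, 5, 2, 1, 5, 6, 0, 3, 4, 0, 3, 0, 4, 1, 4, 3], .stab 15 false [5, 2, 0, 2, 4, 6, 4, 0, 0, 3, 5, 2, 0, 2], .stab 15 false [6, 3, 4, 4, 3, 4, 6, 0, 0, 4, 0, 3, 0, 2, 4, 0, 3], .stab 19 false [5, 6, 4, 2, 5, 0, 2, 5, 1, 4, 3], .stab 19 true [6, 3, 4, 4, 3, 4, 6, 0, 0, 4, 0, 3, 0, 2, 4, 0, 3], .stab 15 true [5, 2, 0, 2, 4, 6, 4, 0, 0, 3, 5, 2, 0, 2], .stab 16 true [5, 3, 4, 6, 5, 1, 4, 6, 3, 5, 2, 1, 2, 5, 0, 4, 3], .stab 19 true [6, 5, 6, 2, 1, 3, 4, 6, 2, 2, 5, 3, 5, 3, 0], .stab 16 true [6, 4, 4, 6, 5, 2, 0, 4, 6, 0, 4,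 1, 3, 5, 1, 2, 2, 1, 4, 3], .step 64 [1, 3, 15, 6, 12, 10], .tok])
  , (⟨1, [6, 5, 5, 2, 5, 0, 4, 6, 3, 4, 1, 5, 3, 0, 4], true, 4, [5, 1, 4, 7, 0, 4, 6, 3, 1, 5, 2, 1, 5, 2, 2, 4]⟩, .scan 0 4 [5, 1, 4, 7, 0, 4, 6, 3, 1, 5, 2, 1, 5, 2, 2, 4] [.tok, .step 66 []])
  , (⟨4, [0, 2, 5, 6, 2, 0, 4, 6, 1, 4, 4, 3, 1, 5, 2, 5, 2, 1], false, 4, [5, 1, 4, 7, 0, 4, 6, 3, 1, 5, 2, 1, 5, 2, 2, 4]⟩, .cmp 1 [6, 5, 5, 2, 5, 0, 4, 6, 3, 4, 1, 5, 3, 0, 4] [.stab 6 false [0, 5, 6, 0, 4, 6, 0, 0, 4, 0, 2, 2, 0, 2, 4, 0], .stab 7 false [1, 4, 7, 0, 4, 6, 0, 0, 4, 0, 2, 2, 0, 2, 4, 0], .stab 8 false [6, 4, 6, 2, 1, 3, 5, 1, 3, 4, 3, 0, 2], .stab 6 true [3, 0, 4, 6, 2, 4, 6, 1, 2, 5, 0, 4, 0, 4, 2, 5], .stab 12 true [1,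 2, 5, 6, 2, 0, 4, 6, 3, 0, 4, 0, 3, 4, 3, 5, 3], .stab 12 true [4, 0, 4, 7, 4, 6, 3, 1, 5, 3, 0, 2, 0, 4, 2, 2, 1], .stab 7 true [2, 0, 5, 6, 1, 4, 6, 3, 3, 1, 4, 2, 0, 4, 3, 0, 4, 0], .stab 12 true [4, 6, 0, 2, 0, 4, 6, 2, 0, 3, 4, 3, 4, 3, 5, 2, 4, 0], .stab 6 true [2, 4, 2, 4, 7, 4, 6, 2, 1, 3, 5, 0, 2, 1, 3, 3], .stab 12 true [1, 1, 5, 6, 2, 4, 6, 4, 2, 2, 4, 1, 4, 3, 0, 3, 3], .step 58 [1, 1, 10, 1, 4]] [.step 67 []])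
  , (⟨4, [4, 2, 5, 5, 1, 4, 6, 3, 5, 3, 4, 0, 4, 3, 0, 3, 1], true, 2, [7, 4, 6, 0, 0, 5, 3, 0, 5, 2, 1, 2, 2]⟩, .scan 9 2 [7, 4, 6, 0, 0, 5, 3, 0, 5, 2, 1, 2, 2] [.tok, .step 14 [0, 10, 12, 15, 1, 6, 11, 13], .tok, .stab 6 false [5, 6, 2, 5, 2, 4, 6, 3, 0, 5, 3, 3, 0, 2, 4, 1, 4], .stab 12 false [3, 1, 4, 2, 0, 5, 6, 3, 0, 3, 3, 1, 3], .stab 8 false [6, 2, 5, 2, 4, 6, 2, 0, 2, 2, 1, 4, 2, 0, 4, 3, 1], .stab 12 false [1, 3, 5, 2, 5, 6, 2, 1, 3, 3, 1, 2], .stab 6 false [4, 6, 4, 4, 1, 4, 6, 0, 2, 5, 3, 3, 0, 2, 1, 2, 2, 4], .stab 6 false [3, 3, 5, 0, 4, 6, 2, 1, 3, 3, 1], .stab 12 false [6, 0, 0, 3], .step 13 [11, 11], .tok, .stab 19 false [1, 4, 0, 4, 2, 4, 6, 0, 2, 1, 2, 2, 5, 1, 2, 2, 5, 2], .stab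 16 false [5, 2, 4, 1, 4, 6, 1, 1, 3, 3, 5, 1, 2, 2, 5, 2], .stab 19 false [5, 7, 1, 3, 4, 6, 2, 1, 3, 1, 3, 5, 3, 5, 5, 1, 3, 3], .stab 19 false [6, 3, 4, 4, 3, 4, 6, 1, 4, 2, 0, 2, 1, 5, 2], .stab 19 false [5, 6, 4, 2, 2, 1, 3, 5, 1, 5, 5], .stab 19 true [6, 3, 4, 4, 3, 4, 6, 1, 4, 2, 0, 2, 1, 5, 2], .stab 15 true [5, 2, 0, 2, 4, 6, 4, 1, 1, 3, 4, 1, 3, 3, 5], .stab 16 true [5, 3, 4, 6, 5, 1, 4, 6, 4, 3, 4, 3, 3, 0, 4, 2, 0, 2], .stab 19 true [6, 5, 6, 2, 1, 3, 4, 6, 2, 2, 5, 3, 5, 1, 3, 5], .stab 16 true [6, 4, 4, 6, 5, 2, 0, 4, 6, 2, 2, 5, 2, 0, 3, 4, 3, 1], .step 64 [1, 15, 1, 4], .tok])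
  , (⟨2, [7, 4, 6, 0, 0, 5, 3, 0, 5, 2, 1, 2, 2], true, 4, [4, 2, 5, 5, 1, 4, 6, 5, 3, 1, 4, 3, 5, 2, 2, 5]⟩, .scan 0 4 [4, 2, 5, 5, 1, 4, 6, 5, 3, 1, 4, 3, 5, 2, 2, 5] [.tok, .step 69 []])
  , (⟨4, [3, 3, 4, 0, 5, 6, 0, 0, 5, 2, 2, 5, 0, 5, 3, 0, 2], true, 3, [7, 3, 3, 0, 2, 4, 6, 0, 5, 2, 4, 4, 0, 3, 4, 3, 1, 2]⟩, .scan 14 3 [7, 3, 3, 0, 2, 4, 6, 0, 5, 2, 4, 4, 0, 3, 4, 3, 1, 2] [.tok, .stab 46 false [5, 1, 4, 1, 4, 6, 2, 5, 3, 0, 5, 2, 1, 3, 3, 1], .stab 51 false [3, 5, 0, 3, 0, 4, 6, 3, 3, 4, 0, 4, 2, 1, 2, 4], .stab 51 false [5, 1, 4, 6, 2, 0, 3, 3, 5, 1, 3, 3, 5, 0, 5], .stab 46 false [7, 4, 4, 3, 3, 4, 6, 0, 3, 0, 2, 2, 5, 2, 1, 4], .stab 46 false [5, 2, 0, 2, 4, 6, 0, 2, 4, 0, 4, 3, 1, 3,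 4, 3], .stab 46 false [4, 2, 1, 5, 3, 4, 6, 3, 3, 0, 3, 5, 3, 0, 5, 5], .stab 46 false [5, 6, 0, 3, 5, 0, 2, 0, 5, 3, 1, 3], .stab 46 true [4, 2, 1, 5, 3, 4, 6, 3, 3, 0, 3, 5, 3, 0, 5, 5], .stab 46 true [5, 2, 0, 2, 4, 6, 0, 2, 4, 0, 4, 3, 1, 3, 4, 3], .stab 46 true [7, 4, 4, 3, 3, 4, 6, 0, 3, 0, 2, 2, 5, 2, 1, 4], .stab 46 true [5, 1, 4, 6, 2, 0, 3, 3, 5, 1, 3, 3, 5, 0, 5], .stab 51 true [3, 5, 0, 3, 0, 4, 6, 3, 3, 4, 0, 4, 2, 1, 2, 4], .stab 51 true [5, 1, 4, 1, 4, 6, 2, 5, 3, 0, 5, 2, 1, 3, 3, 1], .stab 46 true [2, 0, 5, 2, 0, 4, 6, 3, 5, 1, 4, 3, 0, 3, 3, 5, 1], .step 41 [2, 4, 12, 2], .tok, .stab 7 false [3, 5, 2, 2, 4, 6, 1, 3, 4, 2, 5, 1, 2, 1, 4], .stab 6 false [4, 2, 1, 4, 0, 5, 6, 0, 3,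 0, 4, 0, 2, 4, 0, 4, 2], .stab 7 false [4, 1, 5, 5, 2, 4, 6, 3, 4, 1, 3, 3, 1, 5, 1, 5, 3], .stab 12 false [5, 5, 1, 3, 4, 6, 3, 0, 2, 5, 0, 4, 2, 0, 5, 1, 2], .stab 8 false [5, 7, 3, 4, 2, 4, 6, 3, 5, 1, 2, 4, 4, 2, 1, 5], .stab 6 false [3, 5, 0, 4, 0, 5, 6, 1, 5, 3, 1, 5, 3, 4, 2], .stab 6 false [6, 5, 3, 0, 3, 3, 1, 4, 2, 4, 1], .step 13 [4, 10, 15, 4, 13], .tok, .stab 19 false [4, 0, 4, 3, 3, 4, 6, 2, 5, 0, 3, 0, 3, 4, 3, 1, 4], .stab 16 false [0, 4, 2, 5, 2, 2, 4, 6, 4, 0, 3, 1, 3, 4, 0, 2, 1, 5], .stab 15 false [4, 3, 4, 1, 3, 4, 6, 0, 2, 4, 0, 5, 3, 0, 5, 2, 0, 5], .stab 19 false [2, 1, 3, 4, 6, 3, 1, 2, 4, 2, 0, 3, 1, 4, 4], .stab 16 false [3, 3, 0, 2, 4, 6, 0, 2, 0, 5, 3, 0, 3, 3, 0, 3,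 4, 4], .stab 15 false [1, 5, 6, 0, 2, 0, 4, 3, 1, 3, 3, 1, 3, 4, 4], .stab 15 false [5, 6, 0, 5, 2, 2, 0, 5, 3, 0, 2, 4, 2], .stab 19 true [6, 3, 4, 4, 3, 4, 6, 2, 1, 2, 5, 0, 3, 0, 4, 2, 1, 5], .stab 15 true [5, 2, 0, 2, 4, 6, 0, 2, 0, 5, 3, 4, 1, 4, 3, 3, 0, 3], .stab 16 true [5, 3, 4, 6, 5, 1, 4, 6, 1, 3, 5, 3, 5, 0, 2, 4, 1, 4], .stab 19 true [6, 5, 6, 2, 1, 3, 4, 6, 3, 4, 1, 3, 3, 5, 0, 3, 5], .stab 16 true [6, 4, 4, 6, 5, 2, 0, 4, 6, 1, 2, 5, 0, 4, 2, 2, 0], .step 64 [10, 8, 12, 2, 10, 15, 13, 11], .tok])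
  , (⟨3, [7, 3, 3, 0, 2, 4, 6, 0, 5, 2, 4, 4, 0, 3, 4, 3, 1, 2], true, 4, [3, 3, 4, 0, 5, 6, 4, 2, 2, 1, 4, 3, 4, 4, 1, 2]⟩, .scan 0 4 [3, 3, 4, 0, 5, 6, 4, 2, 2, 1, 4, 3, 4, 4, 1, 2] [.tok, .step 71 []])
  , (⟨4, [1, 5, 0, 3, 3, 5, 6, 1, 1, 2], true, 3, [4, 4, 2, 5, 6, 4, 6, 1, 1, 3, 5, 1, 4, 1, 5, 3]⟩, .scan 15 3 [4, 4, 2, 5, 6, 4, 6, 1, 1, 3, 5, 1, 4, 1, 5, 3] [.tok, .stab 46 false [5, 1, 4, 1, 4, 6, 0, 2, 4, 2, 2, 4, 1, 2, 4, 4, 2], .stab 51 false [3, 5, 0, 3, 0, 4, 6, 0, 2, 0, 3, 5, 1, 3, 3, 5, 5], .stab 51 false [5, 1, 4, 6, 0, 5, 2, 4, 4, 3, 0, 3, 3], .stab 46 false [7, 4, 4, 3, 3, 4, 6, 4, 3, 5, 1, 3, 1, 5, 2, 4], .stab 46 false [5, 2, 0, 2, 4, 6, 2, 2, 1, 4, 4, 3, 4, 1, 5], .stab 46 false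 [4, 2, 1, 5, 3, 4, 6, 0, 3, 3, 4, 0, 5, 0, 3, 4], .stab 46 false [5, 6, 0, 2, 0, 4, 0, 5, 3, 5, 3, 3], .stab 46 true [4, 2, 1, 5, 3, 4, 6, 0, 3, 3, 4, 0, 5, 0, 3, 4], .stab 46 true [5, 2, 0, 2, 4, 6, 2, 2, 1, 4, 4, 3, 4, 1, 5], .stab 46 true [7, 4, 4, 3, 3, 4, 6, 4, 3, 5, 1, 3, 1, 5, 2, 4], .stab 46 true [5, 1, 4, 6, 0, 5, 2, 4, 4, 3, 0, 3, 3], .stab 51 true [3, 5, 0, 3, 0, 4, 6, 0, 2, 0, 3, 5, 1, 3, 3, 5, 5], .stab 51 true [5, 1, 4, 1, 4, 6, 0, 2, 4, 2, 2, 4, 1, 2, 4, 4, 2], .stab 46 true [2, 0, 5, 2, 0, 4, 6, 3, 4, 0, 2, 1, 5, 2, 5, 2, 4], .step 41 [14, 0, 12, 5], .tok, .stab 6 false [4, 1, 4, 2, 5, 0, 4, 6, 0, 2, 2, 4, 2, 2, 1, 2, 4, 2], .stab 7 false [2, 5, 2, 4, 0, 5, 6, 0, 5, 3, 0, 4, 4, 0,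 4, 2], .stab 6 false [5, 0, 3, 3, 5, 3, 4, 6, 1, 2, 4, 2, 2, 1, 2, 4, 2], .stab 12 false [0, 5, 0, 2, 0, 4, 6, 1, 2, 4, 1, 2, 2, 4, 1, 5, 3, 4], .stab 7 false [1, 4, 1, 2, 1, 4, 6, 1, 2, 4, 1, 2, 2, 4, 1, 5, 3, 4], .stab 12 false [3, 1, 5, 0, 4, 0, 4, 6, 2, 0, 4, 4, 2, 2, 0, 2, 4, 2], .stab 7 false [3, 5, 0, 4, 0, 5, 6, 1, 2, 1, 4, 2, 2, 1, 2, 4, 2], .stab 6 false [6, 3, 0, 5, 2, 4, 4, 0, 4, 3, 5], .step 13 [9, 11, 2, 13, 0], .tok, .stab 15 false [2, 5, 5, 3, 3, 1, 4, 6, 0, 4, 0, 0, 0, 5, 3, 5, 5, 3], .stab 16 false [6, 4, 1, 5, 3, 4, 6, 2, 2, 4, 1, 5, 2, 4, 2, 1, 3], .stab 19 false [4, 2, 5, 6, 0, 5, 0, 4, 3, 4, 0, 0, 2, 2], .step 55 [0, 12, 4, 13, 0], .tok])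
  , (⟨3, [4, 4, 2, 5, 6, 4, 6, 1, 1, 3, 5, 1, 4, 1, 5, 3], true, 4, [1, 5, 0, 3, 3, 5, 6, 2]⟩, .scan 0 4 [1, 5, 0, 3, 3, 5, 6, 2] [.tok, .step 73 []])
  , (⟨4, [3, 3, 4, 0, 5, 6, 0, 3, 5, 3, 0, 3, 3, 5, 0, 3], false, 4, [1, 5, 0, 3, 3, 5, 6, 2]⟩, .cmp 3 [4, 4, 2, 5, 6, 4, 6, 1, 1, 3, 5, 1, 4, 1, 5, 3] [.stab 51 false [3, 4, 4, 7, 3, 4, 6, 1, 5, 5, 2, 4, 2, 5, 2], .stab 51 false [4, 3, 1, 2, 5, 6, 1, 2, 4, 2, 4, 1, 1, 2, 2, 4], .stab 46 false [7, 3, 5, 3, 4, 6, 0, 3, 0, 3, 5, 3, 5, 1, 2, 2], .stab 46 false [5, 1, 4, 1, 2, 1, 4, 6, 0, 5, 5, 3, 3, 0, 4, 4, 3, 3], .stab 46 false [5, 5, 2, 5, 0, 4, 6, 5, 5, 3, 0, 5, 2, 1, 2, 5], .stab 51 false [2, 4, 1, 3, 1, 4, 6, 1, 5, 3, 0, 3, 3, 0, 4, 3, 0], .stab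 51 false [4, 0, 5, 3, 3, 4, 6, 4, 2, 2, 4, 0, 5, 5, 3, 3], .stab 51 false [0, 4, 3, 5, 2, 4, 6, 1, 3, 1, 4, 1, 3, 3, 5, 5], .stab 46 false [4, 4, 3, 3, 1, 4, 6, 0, 2, 5, 2, 2, 1, 4, 2, 1, 3], .stab 46 false [4, 3, 5, 7, 2, 4, 6, 1, 2, 1, 3, 5, 3, 5, 1, 3, 4], .stab 46 false [7, 5, 0, 3, 0, 4, 6, 1, 4, 2, 1, 4, 2, 2, 0, 4, 3, 5], .stab 51 false [4, 2, 2, 1, 2, 4, 0, 5, 5, 2, 2], .stab 46 true [1, 3, 0, 4, 2, 4, 6, 2, 0, 3, 5, 3, 4, 0, 2, 4, 3], .stab 46 true [5, 5, 2, 4, 3, 4, 6, 0, 2, 4, 1, 4, 3, 0, 5, 2, 0], .stab 46 true [3, 4, 7, 3, 4, 6, 1, 1, 3, 4, 1, 5, 2, 1, 4, 3, 5], .stab 46 true [7, 1, 4, 3, 0, 4, 6, 2, 4, 0, 2, 2, 5, 1, 2, 2, 1, 2], .stab 46 true [7, 3, 3, 0, 2, 4, 6, 4, 4, 3, 3, 4, 0,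 5, 3, 0, 4], .step 72 [1, 10, 14, 11, 7, 0]] [.step 74 []])
  , (⟨2, [2, 4, 4, 1, 2, 2, 4, 6, 2, 1, 2, 5, 1, 5, 2, 2, 0, 4], true, 4, [5, 1, 3, 4, 0, 4, 6, 3, 3, 5, 5, 1, 2, 2, 5, 3, 0]⟩, .scan 8 4 [5, 1, 3, 4, 0, 4, 6, 3, 3, 5, 5, 1, 2, 2, 5, 3, 0] [.tok, .stab 68 false [6, 4, 4, 1, 3, 0, 4, 6, 3, 4, 2, 5, 2, 2, 0, 4, 4], .stab 75 false [4, 2, 0, 5, 6, 0, 2, 2, 4, 2, 0, 2, 4, 3, 3], .stab 61 false [4, 0, 3, 3, 4, 6, 1, 2, 5, 2, 2, 4, 2, 1, 5], .stab 61 false [4, 2, 2, 4, 6, 1, 5, 2, 0, 3, 0, 2, 5, 3, 4], .stab 61 true [4, 0, 3, 3, 4, 6, 1, 2, 5, 2, 2, 4, 2, 1, 5], .stab 61 true [4, 2, 0, 5, 6, 0, 2, 2, 4, 2, 0, 2, 4, 3, 3], .stab 75 true [6, 4, 4, 1, 3, 0, 4, 6, 3, 4, 2, 5, 2, 2, 0, 4, 4], .stab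 68 true [0, 2, 5, 6, 2, 0, 4, 6, 2, 0, 3, 1, 4, 3, 3, 0, 2], .step 57 [11, 4, 13, 7, 10], .tok, .stab 8 false [5, 5, 2, 5, 3, 4, 6, 2, 0, 3, 5, 3, 3, 4, 0, 2, 4, 2, 1], .stab 7 false [4, 7, 2, 5, 2, 4, 6, 0, 2, 0, 2, 2, 1, 3, 5, 2, 5, 2], .stab 12 false [3, 5, 5, 1, 5, 0, 4, 6, 0, 0, 2, 4, 2, 0, 3, 0, 2, 5, 5], .stab 7 false [3, 4, 0, 5, 0, 4, 6, 0, 0, 2, 4, 2, 0, 3, 0, 2, 5, 5], .stab 7 false [3, 1, 5, 0, 4, 0, 4, 6, 1, 2, 5, 2, 1, 3, 1, 2, 5, 5], .stab 7 false [3, 5, 0, 4, 0, 5, 6, 2, 5, 5, 2, 0, 3, 1, 2, 5, 5], .stab 6 false [6, 3, 5, 3, 0, 4, 4, 2, 2, 5, 5], .step 13 [7, 11, 3, 12, 14, 7], .tok, .stab 15 false [3, 1, 5, 7, 3, 4, 6, 2, 0, 5, 3, 5, 5, 0, 3, 5, 0], .stab 19 false [7, 0, 2, 5, 2,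 0, 4, 6, 5, 5, 0, 5, 2, 0, 3, 1, 2], .stab 15 false [7, 0, 4, 0, 4, 6, 0, 2, 1, 4, 2, 2, 1, 2, 4, 4], .stab 16 false [3, 4, 7, 0, 4, 6, 0, 2, 0, 5, 3, 4, 0, 2, 5, 0], .stab 19 false [1, 5, 3, 5, 1, 4, 6, 2, 2, 5, 0, 2, 1, 3, 1, 3, 4, 4], .stab 16 false [5, 2, 1, 5, 2, 2, 4, 6, 2, 2, 4, 0, 2, 0, 3, 0, 3, 4, 4], .stab 19 false [3, 4, 4, 0, 4, 6, 0, 4, 0, 4, 4, 3, 5, 2, 1], .stab 16 false [5, 2, 0, 3, 3, 5, 6, 3, 0, 5, 2, 5, 1, 3, 1, 4, 0], .stab 16 false [3, 5, 1, 5, 6, 2, 1, 4, 1, 4, 3, 4, 1, 5], .stab 16 true [5, 2, 0, 3, 3, 5, 6, 3, 0, 5, 2, 5, 1, 3, 1, 4, 0], .stab 16 true [3, 4, 4, 0, 4, 6, 0, 4, 0, 4, 4, 3, 5, 2, 1], .stab 19 true [5, 2, 1, 5, 2, 2, 4, 6, 2, 2, 4, 0, 2, 0, 3, 0, 3, 4, 4], .stab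 16 true [1, 5, 3, 5, 1, 4, 6, 2, 2, 5, 0, 2, 1, 3, 1, 3, 4, 4], .stab 19 true [3, 4, 7, 0, 4, 6, 0, 2, 0, 5, 3, 4, 0, 2, 5, 0], .stab 16 true [7, 0, 4, 0, 4, 6, 0, 2, 1, 4, 2, 2, 1, 2, 4, 4], .stab 15 true [7, 0, 2, 5, 2, 0, 4, 6, 5, 5, 0, 5, 2, 0, 3, 1, 2], .stab 19 true [3, 1, 5, 7, 3, 4, 6, 2, 0, 5, 3, 5, 5, 0, 3, 5, 0], .stab 16 true [2, 2, 4, 7, 2, 4, 6, 2, 1, 3, 5, 0, 3, 5, 3, 0, 3], .step 23 [2, 7, 7, 10, 12, 14], .tok])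
  , (⟨4, [5, 1, 3, 4, 0, 4, 6, 3, 3, 5, 5, 1, 2, 2, 5, 3, 0], true, 2, [2, 4, 4, 1, 2, 2, 4, 6, 5, 1, 4, 3, 1, 4, 2, 1, 4]⟩, .scan 0 2 [2, 4, 4, 1, 2, 2, 4, 6, 5, 1, 4, 3, 1, 4, 2, 1, 4] [.tok, .step 76 []])
  , (⟨2, [5, 2, 4, 2, 1, 4, 6, 0, 4, 1, 3, 5, 3, 1, 3, 4, 3, 1], true, 4, [1, 5, 0, 4, 0, 4, 6, 3, 0, 3, 4, 0, 2, 5, 5, 2]⟩, .scan 9 4 [1, 5, 0, 4, 0, 4, 6, 3, 0, 3, 4, 0, 2, 5, 5, 2] [.tok, .stab 68 false [6, 4, 4, 1, 3, 0, 4, 6, 2, 0, 3, 4, 3, 4, 4, 1, 3, 1], .stab 75 false [4, 2, 0, 5, 6, 2, 2, 5, 3, 3, 4, 2], .stab 61 false [4, 0, 3, 3, 4, 6, 0, 3, 3, 0, 3, 3, 0, 5, 3, 4, 0, 4], .stab 61 false [4, 2, 2, 4, 6, 4, 2, 2, 0, 2, 4, 0, 3, 0, 5, 2], .stab 61 true [4, 0, 3, 3, 4, 6, 0, 3, 3, 0,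 3, 3, 0, 5, 3, 4, 0, 4], .stab 61 true [4, 2, 0, 5, 6, 2, 2, 5, 3, 3, 4, 2], .stab 75 true [6, 4, 4, 1, 3, 0, 4, 6, 2, 0, 3, 4, 3, 4, 4, 1, 3, 1], .stab 68 true [0, 2, 5, 6, 2, 0, 4, 6, 3, 3, 0, 4, 2, 2, 0, 3, 0], .step 57 [12, 10, 14, 0, 13, 4, 11], .tok, .stab 7 false [6, 4, 6, 0, 4, 6, 0, 3, 1, 3, 4, 0, 5, 3, 0], .stab 7 false [7, 4, 4, 6, 1, 4, 6, 0, 3, 1, 3, 4, 0, 5, 3, 0], .stab 8 false [2, 0, 2, 4, 3, 5, 6, 5, 3, 4, 0, 2, 0, 4], .stab 6 false [5, 2, 0, 4, 0, 5, 6, 5, 2, 2, 0, 2, 5, 2, 5, 5, 0], .stab 8 false [1, 4, 1, 2, 1, 4, 6, 0, 5, 2, 2, 0, 2, 5, 2, 5, 5, 0], .stab 12 false [3, 1, 5, 0, 4, 0, 4, 6, 5, 2, 2, 5, 1, 2, 4, 0, 5], .stab 7 false [3, 5, 0, 4, 0, 5, 6, 0, 5, 2, 1, 5, 3, 5, 1,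 3], .stab 6 false [6, 0, 4, 2, 0, 2, 2, 0, 2, 2, 0, 5, 5], .step 13 [4, 10, 12, 10, 5, 15, 13, 11], .tok, .stab 16 false [4, 6, 4, 1, 4, 6, 2, 0, 3, 5, 0, 2, 0, 4, 1, 5], .stab 15 false [0, 4, 6, 1, 4, 6, 0, 4, 2, 2, 5, 1, 2, 4, 4], .stab 19 false [4, 6, 4, 4, 2, 0, 4, 6, 0, 2, 0, 3, 5, 1, 5, 3, 3, 5, 1], .stab 16 false [3, 5, 1, 4, 6, 0, 0, 0, 0, 5, 2, 5, 3, 3, 5], .stab 19 false [3, 4, 2, 4, 2, 0, 4, 6, 0, 3, 1, 5, 2, 0, 5, 3, 0, 5, 0], .stab 16 false [2, 2, 5, 1, 2, 2, 4, 6, 1, 2, 5, 1, 4, 2, 1, 5, 1, 2], .stab 15 false [2, 0, 4, 3, 3, 0, 4, 6, 2, 5, 1, 4, 2, 1, 5, 1, 2], .stab 15 false [6, 4, 1, 5, 3, 4, 6, 1, 3, 4, 3, 5, 1, 3, 3, 4, 0], .stab 19 false [4, 2, 5, 6, 0, 2, 0, 4, 2, 1, 5, 3, 3,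 4], .stab 15 true [1, 4, 2, 2, 5, 6, 2, 5, 1, 4, 2, 2, 5, 1, 2, 5], .stab 19 true [7, 3, 5, 3, 4, 6, 0, 2, 0, 3, 5, 1, 2], .stab 16 true [1, 4, 0, 3, 5, 0, 4, 6, 5, 5, 0, 2, 4, 4, 2, 2, 4], .stab 16 true [3, 4, 2, 5, 6, 0, 2, 2, 4, 0, 5, 2, 2, 1, 3], .stab 16 true [7, 5, 1, 4, 3, 0, 4, 6, 0, 2, 0, 2, 2, 0, 2, 2, 5, 1, 2], .stab 19 true [6, 4, 3, 1, 2, 4, 6, 0, 3, 0, 2, 0, 2, 5, 2, 4, 0, 3], .stab 16 true [6, 4, 4, 0, 2, 0, 4, 6, 4, 0, 4, 1, 5, 1, 3, 1], .step 20 [6, 10, 7, 13, 11], .tok])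
  , (⟨4, [1, 5, 0, 4, 0, 4, 6, 3, 0, 3, 4, 0, 2, 5, 5, 2], true, 2, [5, 2, 4, 2, 1, 4, 6, 3, 4, 4, 3, 5, 0, 3, 3, 4, 1]⟩, .scan 0 2 [5, 2, 4, 2, 1, 4, 6, 3, 4, 4, 3, 5, 0, 3, 3, 4, 1] [.tok, .step 78 []])
  , (⟨3, [3, 4, 2, 4, 6, 0, 4, 6, 4, 1, 4, 3, 5, 1, 5, 2], true, 4, [1, 4, 1, 4, 0, 5, 6, 0, 3, 0, 5, 3, 0, 2, 4, 0, 5]⟩, .scan 12 4 [1, 4, 1, 4, 0, 5, 6, 0, 3, 0, 5, 3, 0, 2, 4, 0, 5] [.tok, .stab 68 false [6, 4, 4, 1, 3, 0, 4, 6, 2, 4, 4, 0, 3, 1, 5, 3, 3, 0], .stab 75 false [4, 2, 0, 5, 6, 0, 3, 1, 3, 4, 2, 1, 3, 3, 1], .stab 61 false [4, 0, 3, 3, 4, 6, 0, 5, 0, 3, 0, 2, 1, 3, 5, 5], .stab 61 false [4, 2, 2, 4, 6, 5, 5, 2, 1, 3, 4, 1, 5, 1], .stab 61 true [4, 0, 3, 3, 4, 6, 0, 5, 0, 3, 0, 2,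 1, 3, 5, 5], .stab 61 true [4, 2, 0, 5, 6, 0, 3, 1, 3, 4, 2, 1, 3, 3, 1], .stab 75 true [6, 4, 4, 1, 3, 0, 4, 6, 2, 4, 4, 0, 3, 1, 5, 3, 3, 0], .stab 68 true [0, 2, 5, 6, 2, 0, 4, 6, 1, 3, 5, 0, 3, 3, 0, 5, 3], .step 57 [14, 1, 3, 14, 12], .tok, .stab 12 false [5, 2, 1, 4, 3, 5, 6, 0, 5, 2, 0, 2, 1, 3, 4, 3, 1], .stab 12 false [7, 4, 1, 3, 4, 6, 4, 1, 5, 3, 3, 5, 1, 2, 5, 1], .stab 8 false [4, 4, 3, 1, 2, 4, 6, 1, 2, 4, 2, 0, 2, 1, 3, 5], .stab 12 false [1, 2, 1, 5, 1, 4, 6, 1, 4, 3, 1, 4, 4], .stab 12 false [4, 0, 3, 3, 4, 6, 0, 2, 2, 1, 4, 3, 1, 4, 4], .stab 8 false [1, 5, 1, 5, 3, 5, 6, 3, 1, 2, 2, 4, 3, 1, 4, 4], .stab 8 false [6, 2, 4, 4, 2, 1, 3, 1, 3, 4], .stab 12 true [3, 3, 5, 0, 4, 6,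 0, 4, 2, 0, 3, 0, 3, 3, 1, 4], .stab 6 true [4, 6, 4, 4, 1, 4, 6, 1, 5, 2, 4, 2, 1, 5, 1, 2], .stab 12 true [5, 6, 5, 0, 4, 3, 4, 6, 1, 5, 2, 1, 3, 4, 0, 2, 5, 5], .stab 12 true [3, 3, 0, 4, 6, 2, 0, 2, 4, 2, 2, 0, 2, 1, 4], .stab 7 true [3, 3, 1, 4, 6, 2, 0, 2, 4, 2, 2, 0, 2, 1, 4], .step 40 [4, 6, 12, 5, 11], .tok, .stab 51 false [1, 3, 0, 5, 0, 5, 6, 4, 0, 3, 1, 2, 4, 2, 2, 1], .stab 46 false [3, 1, 3, 4, 2, 4, 6, 2, 2, 5, 1, 1, 2, 1, 4], .stab 46 false [4, 0, 5, 2, 4, 4, 6, 2, 1, 5, 1, 4, 1, 4, 3, 3, 5], .stab 51 false [1, 4, 1, 4, 2, 5, 6, 0, 2, 5, 2, 1, 5, 5, 2, 2, 4], .stab 46 false [4, 2, 1, 3, 3, 4, 6, 3, 1, 3, 5, 3, 4, 0, 2, 4], .stab 46 false [4, 6, 0, 5, 1, 4, 3, 3, 0, 3, 4, 3, 1, 3],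 .stab 46 true [4, 2, 1, 3, 3, 4, 6, 3, 1, 3, 5, 3, 4, 0, 2, 4], .stab 46 true [1, 4, 1, 4, 2, 5, 6, 0, 2, 5, 2, 1, 5, 5, 2, 2, 4], .stab 46 true [0, 2, 4, 2, 4, 6, 4, 1, 4, 0, 2, 0, 5, 0], .stab 46 true [4, 2, 5, 5, 3, 5, 6, 5, 1, 3, 1, 4, 2, 1, 5, 3], .stab 46 true [0, 2, 5, 0, 3, 0, 4, 6, 2, 0, 4, 3, 1, 5, 2, 1, 2, 2], .stab 46 true [7, 2, 1, 4, 6, 4, 2, 1, 5, 2, 5, 3], .step 53 [14, 7, 12, 15, 2, 10], .tok])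
  , (⟨4, [1, 4, 1, 4, 0, 5, 6, 0, 3, 0, 5, 3, 0, 2, 4, 0, 5], true, 3, [3, 4, 2, 4, 6, 0, 4, 6, 0, 3, 1, 5, 3, 3, 5, 3, 3]⟩, .scan 0 3 [3, 4, 2, 4, 6, 0, 4, 6, 0, 3, 1, 5, 3, 3, 5, 3, 3] [.tok, .step 80 []])
  , (⟨4, [4, 4, 6, 5, 1, 4, 6, 5, 0, 5, 0, 4, 2, 5, 5], true, 4, [1, 3, 5, 3, 3, 4, 6, 1, 4, 2, 2, 4, 1, 5, 2, 2, 0]⟩, .scan 7 4 [1, 3, 5, 3, 3, 4, 6, 1, 4, 2, 2, 4, 1, 5, 2, 2, 0] [.tok, .stab 68 false [6, 4, 4, 1, 3, 0, 4, 6, 2, 4, 2, 0, 3, 3, 0, 2, 5, 5], .stab 75 false [4, 2, 0, 5, 6, 4, 2, 2, 5, 2, 4, 1, 3, 3], .stab 61 false [4, 0, 3, 3, 4, 6, 2, 0, 4, 2, 4, 0, 3, 4, 0, 2, 5], .stab 61 false [4, 2, 2, 4, 6, 0, 3, 1, 2, 4, 0, 3, 5, 3, 3, 0], .stab 61 true [4, 0, 3, 3, 4, 6, 2, 0, 4, 2,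 4, 0, 3, 4, 0, 2, 5], .stab 61 true [4, 2, 0, 5, 6, 4, 2, 2, 5, 2, 4, 1, 3, 3], .stab 75 true [6, 4, 4, 1, 3, 0, 4, 6, 2, 4, 2, 0, 3, 3, 0, 2, 5, 5], .stab 68 true [0, 2, 5, 6, 2, 0, 4, 6, 3, 1, 3, 5, 3, 1, 3, 3, 4, 2], .step 57 [10, 6, 12, 10, 14, 12, 5, 11], .tok, .stab 12 false [4, 3, 1, 4, 0, 4, 6, 0, 3, 4, 2, 5, 2, 2, 4], .stab 6 false [5, 0, 4, 0, 3, 5, 6, 0, 4, 2, 4, 2, 2, 1, 3, 5, 1, 1], .stab 6 false [1, 4, 1, 4, 3, 4, 6, 1, 1, 1, 3, 4, 2, 5, 2, 2, 4], .stab 7 false [7, 5, 2, 5, 0, 4, 6, 0, 3, 4, 3, 3, 5, 0, 2, 1], .stab 7 false [1, 5, 1, 5, 3, 5, 6, 0, 3, 4, 2, 5, 2, 2, 4], .stab 8 false [6, 1, 4, 4, 1, 3, 4, 1, 5, 2, 2], .stab 12 true [3, 3, 5, 0, 4, 6, 4, 2, 0, 5, 2, 4, 3, 4], .stab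 6 true [4, 6, 4, 4, 1, 4, 6, 0, 3, 3, 4, 1, 3, 5, 0, 2, 1, 5, 2, 2], .stab 12 true [5, 6, 5, 0, 4, 3, 4, 6, 2, 4, 2, 5, 2, 4, 0, 0], .stab 12 true [3, 3, 0, 4, 6, 1, 4, 2, 1, 3, 1, 2, 5, 1, 2, 5], .stab 7 true [3, 3, 1, 4, 6, 1, 4, 2, 1, 3, 1, 2, 5, 1, 2, 5], .step 40 [0, 10, 4, 0, 15, 13], .tok, .stab 51 false [5, 5, 3, 4, 3, 0, 4, 6, 0, 2, 4, 4, 3, 4, 2, 1, 3], .stab 51 false [2, 0, 4, 0, 4, 6, 1, 2, 4, 4, 2, 5, 1, 2, 2, 4, 0], .stab 46 false [7, 4, 3, 3, 4, 6, 0, 5, 2, 2, 4, 0, 4, 2, 0, 4], .stab 46 false [4, 4, 3, 1, 2, 4, 6, 2, 0, 2, 4, 1, 2, 2, 5, 0], .stab 51 false [4, 7, 1, 4, 3, 4, 6, 4, 0, 4, 4, 2, 4, 1, 4, 3], .stab 46 false [4, 7, 3, 5, 0, 4, 6, 0, 3, 0, 2, 1, 2, 5, 0, 4, 3, 4], .stab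 46 false [3, 5, 2, 4, 3, 1, 4, 6, 2, 2, 0, 5, 1, 4, 1, 4, 3], .stab 51 false [2, 0, 4, 1, 4, 6, 1, 2, 2, 5, 1, 4, 3, 3, 1, 4], .stab 46 false [0, 3, 5, 0, 3, 5, 6, 4, 3, 5, 0, 3, 4, 1, 2, 1, 2], .stab 51 false [6, 3, 0, 2, 0, 2, 4, 3, 4, 2, 2, 0], .stab 46 true [0, 3, 4, 6, 4, 6, 2, 2, 5, 1, 1, 1, 4, 2, 5], .stab 51 true [3, 1, 4, 2, 0, 4, 6, 0, 3, 5, 5, 3, 0, 3, 3, 4, 1, 3], .stab 46 true [1, 5, 1, 3, 4, 6, 0, 5, 2, 4, 4, 0, 2, 4, 2, 1], .stab 46 true [3, 4, 2, 4, 6, 0, 4, 6, 3, 4, 4, 3, 4, 0, 4, 3, 0], .step 80 [12, 10, 0, 3, 10, 14], .tok])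
  , (⟨2, [2, 0, 5, 7, 2, 4, 6, 4, 2, 1, 3, 4, 1, 1, 3], true, 4, [7, 1, 2, 0, 4, 6, 1, 1, 2, 4, 2, 4, 1, 2, 2]⟩, .scan 12 4 [7, 1, 2, 0, 4, 6, 1, 1, 2, 4, 2, 4, 1, 2, 2] [.tok, .stab 68 false [6, 4, 4, 1, 3, 0, 4, 6, 4, 1, 5, 3, 3, 0, 5, 3, 3], .stab 75 false [4, 2, 0, 5, 6, 2, 2, 0, 5, 2, 0, 5, 3, 1, 3, 5], .stab 61 false [4, 0, 3, 3, 4, 6, 0, 3, 4, 2, 0, 4, 2, 2, 1, 2], .stab 61 false [4, 2, 2, 4, 6, 0, 3, 5, 3, 3, 0, 3, 5, 1, 3, 1], .stab 61 true [4, 0, 3, 3, 4, 6, 0, 3, 4, 2, 0, 4, 2, 2, 1, 2], .stab 61 true [4, 2, 0, 5, 6, 2, 2, 0, 5, 2, 0, 5, 3, 1, 3, 5], .stab 75 true [6, 4, 4, 1, 3, 0, 4, 6, 4, 1, 5, 3, 3, 0, 5, 3, 3], .stab 68 true [0, 2, 5, 6, 2, 0, 4, 6, 3, 4, 0, 3, 1, 5, 5, 3, 3], .step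 57 [1, 15, 4, 12, 7, 10, 12], .tok, .stab 12 false [4, 2, 1, 3, 0, 4, 6, 4, 1, 5, 0, 5, 2, 1, 5, 3], .stab 7 false [5, 3, 4, 4, 1, 5, 6, 0, 0, 5, 3, 0, 5, 2, 2, 4, 2, 0], .stab 7 false [5, 3, 0, 2, 2, 4, 6, 2, 0, 4, 0, 5, 2, 0, 3, 3, 0], .stab 12 false [3, 4, 0, 5, 0, 4, 6, 1, 4, 1, 5, 3, 1, 5, 2, 5, 0], .stab 7 false [3, 1, 5, 0, 4, 0, 4, 6, 4, 1, 5, 3, 1, 5, 2, 5, 0], .stab 7 false [3, 5, 0, 4, 0, 5, 6, 4, 0, 5, 1, 5, 3, 0, 2, 0, 5], .stab 6 false [6, 2, 5, 2, 0, 4, 0, 3, 0, 3, 4], .stab 12 true [3, 3, 5, 0, 4, 6, 0, 0, 4, 3, 5, 0, 2, 5], .stab 6 true [4, 6, 4, 4, 1, 4, 6, 4, 4, 3, 0, 4, 2, 5, 0, 3, 3], .stab 12 true [5, 6, 5, 0, 4, 3, 4, 6, 4, 2, 5, 0, 2, 4, 2, 1, 5, 3], .stab 12 true [3, 3,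 0, 4, 6, 1, 3, 1, 4, 3, 5, 0, 5, 1, 3], .stab 7 true [3, 3, 1, 4, 6, 1, 3, 1, 4, 3, 5, 0, 5, 1, 3], .step 40 [0, 2, 10, 13, 4, 11, 15, 13], .tok, .stab 51 false [2, 4, 3, 5, 0, 4, 6, 5, 0, 3, 5, 0, 0, 3], .stab 51 false [4, 2, 5, 7, 0, 4, 6, 0, 3, 5, 1, 2, 2, 5, 2, 4, 0], .stab 51 false [1, 3, 4, 0, 2, 0, 4, 6, 1, 2, 2, 5, 2, 0, 3, 3, 0, 4], .stab 51 false [5, 3, 5, 1, 2, 5, 6, 5, 0, 2, 4, 4, 2, 0, 5, 2, 1], .stab 51 false [1, 4, 6, 0, 5, 1, 4, 6, 0, 2, 5, 1, 5, 5, 3, 1, 3, 3], .stab 51 false [4, 6, 1, 4, 6, 0, 2, 4, 1, 5, 3, 3, 1, 3, 4, 4], .stab 46 false [5, 7, 0, 4, 3, 4, 6, 1, 5, 1, 3, 1, 4, 3, 3, 1, 5, 3], .stab 51 false [3, 5, 2, 4, 3, 1, 4, 6, 1, 2, 2, 1, 3, 1, 5, 0, 5, 0], .stab 51 false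 [2, 0, 4, 1, 4, 6, 2, 2, 5, 0, 5, 2, 5, 0, 3, 1, 3], .stab 46 false [0, 3, 5, 0, 3, 5, 6, 0, 2, 1, 3, 3, 4, 1, 3, 4, 2, 4], .stab 51 false [6, 2, 1, 4, 3, 4, 1, 5, 3, 0, 5], .stab 51 true [0, 3, 5, 0, 3, 5, 6, 0, 2, 1, 3, 3, 4, 1, 3, 4, 2, 4], .stab 46 true [2, 0, 4, 1, 4, 6, 2, 2, 5, 0, 5, 2, 5, 0, 3, 1, 3], .stab 46 true [3, 5, 5, 2, 0, 4, 6, 3, 0, 2, 1, 5, 3, 4, 2], .stab 46 true [1, 2, 5, 0, 5, 1, 4, 6, 1, 5, 3, 3, 0, 3, 3, 5, 1, 4], .stab 46 true [5, 5, 7, 1, 2, 0, 4, 6, 3, 0, 2, 4, 1, 3, 3, 4, 0], .stab 51 true [4, 1, 2, 5, 0, 4, 6, 2, 0, 2, 5, 2, 4, 2, 4, 0, 3], .stab 51 true [1, 4, 1, 3, 4, 1, 4, 6, 1, 4, 2, 2, 4, 2, 4, 3, 1, 4], .stab 51 true [3, 5, 2, 1, 5, 6, 0, 5, 2, 0, 2, 4, 1, 5, 5,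 3], .stab 46 true [1, 5, 6, 2, 2, 4, 6, 3, 3, 4, 1, 3, 1, 2, 1, 3, 5], .stab 46 true [2, 4, 2, 4, 6, 3, 1, 2, 4, 2, 0, 4, 2, 2, 5], .step 48 [1, 11, 6, 1, 11, 11], .tok])
  , (⟨4, [7, 1, 2, 0, 4, 6, 1, 1, 2, 4, 2, 4, 1, 2, 2], true, 2, [2, 0, 5, 7, 2, 4, 6, 4, 2, 1, 3, 4, 3]⟩, .scan 0 2 [2, 0, 5, 7, 2, 4, 6, 4, 2, 1, 3, 4, 3] [.tok, .step 83 []])
  , (⟨4, [6, 4, 3, 4, 2, 0, 4, 6, 2, 4, 2, 2, 0, 3, 5, 0, 0, 3, 5], true, 2, [7, 5, 0, 4, 3, 4, 6, 1, 5, 3, 0, 2, 5, 2, 2, 4]⟩, .scan 15 2 [7, 5, 0, 4, 3, 4, 6, 1, 5, 3, 0, 2, 5, 2, 2, 4] [.tok, .step 14 [2, 14, 1, 14, 1, 12], .tok, .stab 12 false [4, 1, 2, 4, 2, 4, 6, 0, 0, 0, 4, 3, 5, 0, 5, 1, 3], .stab 6 false [5, 7, 5, 1, 5, 2, 4, 6, 4, 3, 0, 5, 3,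 4, 0, 2, 5], .stab 7 false [4, 2, 1, 3, 5, 0, 4, 6, 0, 2, 2, 4, 3, 5, 0, 5, 3, 1], .stab 7 false [2, 2, 0, 2, 5, 1, 4, 6, 1, 4, 4, 3, 1, 5, 2, 2, 4, 2, 0], .stab 12 false [4, 4, 3, 5, 2, 1, 4, 6, 1, 1, 3, 4, 3, 5, 0, 2, 5], .stab 12 false [3, 5, 0, 4, 0, 5, 6, 0, 5, 5, 2, 5, 1, 3, 1, 4, 3, 3], .stab 6 false [6, 0, 2, 5, 0, 4, 3, 1, 3, 3, 1, 2], .stab 12 true [3, 3, 5, 0, 4, 6, 5, 2, 2, 1, 3, 4, 0, 5], .stab 6 true [4, 6, 4, 4, 1, 4, 6, 5, 2, 4, 4, 2, 5, 1, 2, 2], .stab 12 true [5, 6, 5, 0, 4, 3, 4, 6, 3, 3, 1, 5, 2, 5, 0, 3, 0, 4], .stab 12 true [3, 3, 0, 4, 6, 0, 5, 2, 5, 1, 4, 2, 2, 5, 1], .stab 7 true [3, 3, 1, 4, 6, 0, 5, 2, 5, 1, 4, 2, 2, 5, 1], .step 40 [2, 14, 1, 12, 5], .tok, .stab 46 false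 [4, 2, 4, 2, 5, 6, 3, 4, 0, 0, 0, 3, 4, 3, 5], .stab 51 false [6, 2, 5, 1, 4, 6, 3, 3, 4, 0, 4, 3, 4, 1, 4, 4], .stab 51 false [7, 2, 4, 3, 4, 6, 2, 1, 4, 3, 1, 3, 5, 0], .stab 46 false [4, 4, 2, 4, 3, 5, 6, 0, 2, 2, 0, 5, 0, 4, 0, 3, 1, 3], .stab 51 false [4, 7, 3, 4, 2, 0, 4, 6, 1, 4, 2, 1, 2, 2, 1, 5, 3, 3], .stab 51 false [7, 4, 0, 4, 0, 4, 6, 1, 1, 3, 1, 2, 4, 1, 4, 3, 4], .stab 46 false [7, 4, 0, 5, 0, 4, 6, 1, 2, 2, 1, 4, 4, 2, 1, 3, 4], .stab 46 false [7, 5, 3, 3, 1, 4, 6, 0, 3, 1, 4, 0, 3, 5, 3], .stab 46 false [3, 1, 3, 5, 2, 5, 6, 0, 2, 1, 2, 2, 1, 4, 2, 2, 1, 4, 2], .stab 51 false [7, 5, 0, 3, 0, 4, 6, 2, 0, 2, 4, 1, 3, 4, 3, 0, 2], .stab 51 false [3, 5, 1, 3, 4, 1, 2, 4, 3], .stab 46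 true [1, 3, 0, 4, 2, 4, 6, 2, 0, 2, 4, 2, 1, 2, 2, 5], .stab 46 true [5, 5, 2, 4, 3, 4, 6, 1, 2, 2, 4, 3, 0, 2], .stab 46 true [3, 4, 7, 3, 4, 6, 0, 5, 1, 5, 2, 4, 0, 3, 4, 3, 0], .stab 46 true [7, 1, 4, 3, 0, 4, 6, 1, 5, 2, 0, 2, 2, 0, 4, 3], .stab 46 true [7, 3, 3, 0, 2, 4, 6, 1, 3, 4, 0, 3, 0, 2, 4, 1, 5], .step 72 [13, 8, 15, 4, 12], .tok])
  , (⟨2, [7, 5, 0, 4, 3, 4, 6, 1, 5, 3, 0, 2, 5, 2, 2, 4], true, 4, [6, 4, 3, 4, 2, 0, 4, 6, 5, 3, 3, 1, 4, 1, 1, 3, 5, 3]⟩, .scan 0 4 [6, 4, 3, 4, 2, 0, 4, 6, 5, 3, 3, 1, 4, 1, 1, 3, 5, 3] [.tok, .step 85 []])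
  , (⟨2, [7, 5, 2, 0, 2, 4, 6, 3, 0, 4, 4, 3, 4, 0, 2, 0], true, 4, [7, 5, 6, 2, 0, 4, 6, 0, 3, 4, 3, 0, 5, 2, 2, 5, 2]⟩, .scan 6 4 [7, 5, 6, 2, 0, 4, 6, 0, 3, 4, 3, 0, 5, 2, 2, 5, 2] [.tok, .stab 61 false [6, 4, 3, 3, 1, 4, 6, 1, 5, 0, 5, 2, 2, 0, 2, 4, 2, 0], .stab 75 false [5, 7, 4, 1, 3, 4, 6, 4, 2, 4, 2, 0, 2, 1, 3, 3], .stab 61 false [1, 5, 1, 3, 1, 4, 6, 3, 0, 3, 4, 4, 2, 4, 4], .stab 68 false [0, 2, 4, 3, 3, 4, 6, 2, 1, 5, 5, 3, 5, 3, 3, 1, 4], .stab 75 false [0, 2, 5, 0, 4, 6, 5, 3, 3, 5, 5, 0, 4], .stab 75 false [0, 5, 3, 3, 4, 4, 1, 3], .stab 75 true [0, 2, 5, 0, 4, 6, 5, 3, 3, 5, 5, 0, 4], .stab 75 true [0, 2, 4, 3, 3, 4, 6, 2, 1, 5, 5, 3, 5, 3, 3, 1, 4], .stab 68 true [1, 5, 1, 3, 1,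 4, 6, 3, 0, 3, 4, 4, 2, 4, 4], .stab 61 true [5, 7, 4, 1, 3, 4, 6, 4, 2, 4, 2, 0, 2, 1, 3, 3], .stab 75 true [6, 4, 3, 3, 1, 4, 6, 1, 5, 0, 5, 2, 2, 0, 2, 4, 2, 0], .stab 61 true [1, 4, 1, 4, 0, 5, 6, 5, 3, 3, 0, 5, 2, 1, 4, 3, 3], .step 81 [1, 14, 13, 7, 0, 10, 15], .tok, .stab 51 false [4, 2, 1, 5, 3, 4, 6, 0, 4, 0, 5, 0, 0, 3, 5, 0, 2], .stab 46 false [5, 6, 1, 5, 2, 1, 3, 4, 1, 5, 2, 5], .stab 46 true [4, 2, 1, 5, 3, 4, 6, 0, 4, 0, 5, 0, 0, 3, 5, 0, 2], .stab 46 true [5, 2, 0, 2, 4, 6, 0, 3, 1, 2, 5, 0, 2, 5, 1], .stab 46 true [7, 4, 4, 3, 3, 4, 6, 0, 0, 4, 2, 4, 2, 0, 5, 0, 3], .stab 46 true [5, 1, 4, 6, 2, 0, 3, 0, 5, 2, 4, 0, 4, 0], .stab 51 true [3, 5, 0, 3, 0, 4, 6, 5, 0, 5, 0, 5, 2, 4,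 0], .stab 51 true [5, 1, 4, 1, 4, 6, 0, 5, 1, 5, 0, 4, 2, 2, 0, 2], .stab 46 true [2, 0, 5, 2, 0, 4, 6, 4, 0, 5, 5, 0, 4, 4], .step 41 [11, 5, 8, 12], .tok, .stab 7 false [1, 4, 0, 3, 4, 6, 1, 4, 3, 5, 5, 1, 3, 3, 1, 3], .stab 8 false [7, 4, 3, 1, 4, 1, 4, 6, 5, 2, 1, 5, 2, 0, 2, 4, 4], .stab 7 false [5, 3, 0, 2, 4, 0, 4, 6, 0, 3, 4, 3, 5, 5, 1, 3, 3, 1, 3], .stab 8 false [2, 5, 5, 0, 3, 0, 4, 6, 5, 2, 1, 4, 3, 1, 5, 1, 3], .stab 7 false [3, 5, 3, 0, 2, 4, 6, 0, 2, 2, 1, 5, 5, 2, 5, 1, 3, 1], .stab 7 false [4, 4, 3, 5, 2, 1, 4, 6, 5, 2, 0, 3, 5, 0, 5, 3], .stab 12 false [3, 5, 0, 4, 0, 5, 6, 0, 3, 0, 4, 2, 5, 5, 0, 3, 1], .stab 6 false [6, 3, 5, 0, 0, 2, 2, 4, 0, 3, 3], .step 13 [1, 15, 6, 6, 8],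 .tok])
  , (⟨4, [7, 5, 6, 2, 0, 4, 6, 0, 3, 4, 3, 0, 5, 2, 2, 5, 2], true, 2, [7, 5, 2, 0, 2, 4, 6, 0, 4, 2, 4, 0, 4, 2, 2, 1]⟩, .scan 0 2 [7, 5, 2, 0, 2, 4, 6, 0, 4, 2, 4, 0, 4, 2, 2, 1] [.tok, .step 87 []])
  , (⟨4, [5, 5, 2, 5, 1, 4, 6, 3, 3, 0, 5, 3, 3, 4, 3, 1], true, 4, [0, 2, 4, 1, 2, 0, 4, 6, 3, 3, 5, 1, 2, 5, 5, 1, 3, 4]⟩, .scan 10 4 [0, 2, 4, 1, 2, 0, 4, 6, 3, 3, 5, 1, 2, 5, 5, 1, 3, 4] [.tok, .step 56 [2, 13, 4, 6, 11], .tok, .stab 15 false [4, 1, 3, 5, 1, 5, 6, 5, 0, 4, 0, 3, 4, 4, 3, 0], .stab 19 false [4, 3, 4, 1, 2, 1, 4, 6, 3, 5, 5, 2, 0, 5, 2, 1], .stab 16 false [0, 3, 3, 4, 1, 5, 6, 0, 4, 0, 5, 5, 3, 5, 1, 4, 2], .stab 15 false [1, 3, 3, 4, 1, 5, 6, 3, 4, 3, 1, 3, 3, 5, 1, 5, 1],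 .stab 19 false [5, 1, 4, 2, 5, 6, 2, 2, 5, 5, 2, 0, 2, 5, 2, 2], .stab 16 false [2, 4, 1, 2, 0, 4, 6, 1, 1, 2, 4, 3, 4, 1, 5, 3, 5], .stab 19 false [1, 3, 3, 5, 0, 3, 0, 5, 2, 5, 1], .step 14 [4, 10, 14, 12, 11, 7, 15, 13], .tok, .stab 7 false [0, 4, 3, 5, 6, 4, 6, 0, 4, 0, 4, 0, 4, 3, 0, 2, 2], .stab 6 false [0, 5, 6, 4, 6, 2, 2, 5, 2, 4, 1, 5, 2, 2], .stab 7 false [1, 4, 7, 4, 6, 2, 2, 5, 2, 4, 1, 5, 2, 2], .stab 12 false [1, 3, 5, 6, 3, 4, 6, 1, 3, 5, 3, 4, 0, 2, 2, 0, 4], .stab 12 false [4, 3, 5, 7, 4, 4, 6, 0, 3, 4, 1, 3, 3, 4, 0], .stab 8 false [3, 0, 4, 6, 2, 4, 6, 0, 3, 3, 0, 2, 1, 3, 4, 0, 5, 3], .stab 6 false [6, 4, 6, 0, 3, 4, 3, 0, 4, 2, 0, 5, 0], .stab 6 true [3, 0, 4, 6, 2, 4, 6, 0,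 3, 3, 0, 2, 1, 3, 4, 0, 5, 3], .stab 12 true [1, 2, 5, 6, 2, 0, 4, 6, 2, 1, 3, 5, 1, 4, 3, 5, 3, 0, 3], .stab 12 true [4, 0, 4, 7, 4, 6, 2, 0, 5, 5, 3, 5, 0, 3, 1, 4], .stab 7 true [2, 0, 5, 6, 1, 4, 6, 0, 2, 2, 4, 2, 1, 4, 2, 1, 3], .stab 12 true [4, 6, 0, 2, 0, 4, 6, 0, 5, 5, 0, 3, 3, 5, 0, 2, 2], .stab 6 true [2, 4, 2, 4, 7, 4, 6, 2, 0, 5, 1, 5, 3, 3, 4, 4], .stab 12 true [1, 1, 5, 6, 2, 4, 6, 0, 2, 2, 4, 2, 1, 5, 2, 4, 0, 3], .step 58 [10, 0, 12, 3, 14, 13], .tok])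
  , (⟨4, [7, 4, 3, 3, 1, 4, 6, 3, 3, 5, 0, 0, 3, 3, 0, 5], true, 4, [5, 2, 5, 0, 3, 0, 4, 6, 5, 0, 3, 3, 1, 3, 4, 0, 3, 1]⟩, .scan 15 4 [5, 2, 5, 0, 3, 0, 4, 6, 5, 0, 3, 3, 1, 3, 4, 0, 3, 1] [.tok, .step 56 [12, 5, 0, 10, 10], .tok, .stab 15 false [2, 0, 5, 6, 2, 0, 3, 5, 3, 4, 1], .stab 15 false [3, 0, 2, 5, 6, 0, 4, 2, 5, 0, 4, 3, 3, 5, 3], .stab 16 false [2, 5, 6, 2, 0, 3, 5, 3, 4, 1], .stab 15 true [1, 2, 2, 5, 6, 0, 2, 2, 0, 3, 3, 5, 3, 4, 1], .stab 19 true [5, 1, 2, 5, 0, 4, 6, 1, 4, 2, 2, 0, 3, 3, 5, 1, 2], .stab 16 true [7, 3, 5, 1, 5, 0, 4, 6, 1, 1, 5, 2, 4, 1, 2, 4, 0], .stab 15 true [5, 2, 2, 4, 1, 2, 4, 6, 0, 3, 0, 5, 3, 4, 4, 3, 1, 4, 2], .stab 19 true [4, 4, 2, 5, 3, 4, 6, 0, 3, 3,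 0, 5, 3, 0, 2, 0, 5, 1], .stab 16 true [4, 1, 4, 6, 1, 5, 3, 0, 2, 4, 2, 1, 5], .stab 19 true [7, 2, 2, 4, 3, 4, 6, 0, 2, 5, 3, 3, 1, 4, 3, 3, 1], .stab 19 true [5, 3, 4, 6, 4, 6, 4, 2, 1, 2, 5, 0, 3, 5, 3], .step 21 [], .tok, .stab 15 false [2, 1, 2, 4, 2, 4, 6, 0, 2, 2, 0, 4, 2, 2, 1, 5, 2], .stab 15 false [3, 1, 4, 3, 4, 6, 0, 4, 0, 2, 2, 4, 2, 5, 0], .stab 19 false [4, 2, 0, 5, 0, 5, 6, 1, 4, 2, 4, 1, 5, 2, 2, 1, 2], .stab 16 false [1, 5, 1, 3, 0, 4, 6, 2, 2, 4, 1, 3, 1, 5, 5, 1, 4], .stab 19 false [4, 0, 5, 6, 0, 3, 0, 2, 0, 3, 4, 1, 5, 2], .stab 15 true [0, 5, 3, 4, 0, 4, 6, 1, 2, 2, 1, 2, 4, 1, 5, 2], .stab 15 true [0, 4, 0, 5, 3, 4, 6, 0, 4, 3, 4, 0, 2, 4, 0, 5, 3], .stab 16 true [2, 1,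 3, 5, 0, 4, 6, 0, 3, 1, 2, 1, 3, 4, 1, 5, 2], .stab 19 true [1, 4, 2, 4, 3, 5, 6, 1, 3, 4, 1, 4, 2, 2, 4, 0, 2], .stab 16 true [3, 3, 0, 5, 3, 4, 6, 0, 2, 4, 4, 2, 2, 0, 3, 5], .stab 19 true [2, 0, 4, 4, 3, 5, 6, 2, 0, 5, 1, 3, 5, 3, 1, 3], .stab 16 true [6, 0, 4, 2, 1, 4, 6, 2, 2, 1, 5, 2, 4, 1, 5, 3], .stab 19 true [0, 5, 6, 1, 3, 4, 6, 1, 3, 1, 5, 1, 3, 3, 5], .stab 19 true [7, 5, 2, 0, 2, 4, 6, 4, 0, 3, 4, 3, 5, 1, 5, 3, 0], .step 87 [1, 1, 2, 2, 14, 12], .tok])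
  , (⟨4, [1, 3, 3, 4, 0, 4, 6, 1, 4, 4, 3, 4, 2, 4, 1, 3], true, 4, [3, 4, 4, 6, 0, 4, 6, 1, 5, 2, 0, 5, 3, 3, 0, 5, 3]⟩, .scan 8 4 [3, 4, 4, 6, 0, 4, 6, 1, 5, 2, 0, 5, 3, 3, 0, 5, 3] [.tok, .stab 75 false [4, 6, 5, 5, 2, 1, 4, 6, 2, 4, 4, 1, 5, 3, 3, 4, 1, 3], .stab 68 false [4, 0, 3, 4, 6, 4, 2, 2, 1, 4, 3, 0, 3, 1], .stab 61 false [4, 3, 0, 2, 4, 6, 2, 1, 5, 0, 5, 2, 1, 4, 3, 3, 4], .stab 75 false [6, 4, 2, 4, 4, 6, 0, 3, 3, 4, 1, 3, 3, 1, 4], .stab 75 false [0, 2, 0, 5, 1, 4, 6, 1, 3, 3, 4, 3, 4, 0, 2, 0, 3, 1], .stab 75 false [1, 4, 6, 1, 5, 3, 0, 3, 5, 1, 5, 2, 0, 2], .stab 75 true [0, 2, 0, 5, 1, 4, 6, 1, 3, 3, 4, 3, 4, 0, 2, 0, 3, 1], .stab 75 true [6, 4, 2, 4, 4, 6, 0, 3, 3, 4, 1, 3, 3,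 1, 4], .stab 75 true [4, 3, 0, 2, 4, 6, 2, 1, 5, 0, 5, 2, 1, 4, 3, 3, 4], .stab 61 true [4, 0, 3, 4, 6, 4, 2, 2, 1, 4, 3, 0, 3, 1], .stab 68 true [4, 6, 5, 5, 2, 1, 4, 6, 2, 4, 4, 1, 5, 3, 3, 4, 1, 3], .stab 75 true [1, 5, 0, 4, 0, 4, 6, 2, 0, 3, 0, 4, 0, 4, 0, 4, 3], .step 79 [13, 6, 4, 15, 4], .tok, .stab 19 false [6, 5, 2, 5, 2, 0, 4, 6, 0, 0, 2, 0, 4, 0, 4, 2, 1], .stab 16 false [5, 1, 3, 0, 5, 6, 5, 2, 0, 3, 3, 0, 2, 4, 4, 2], .stab 19 false [5, 1, 4, 3, 1, 4, 6, 4, 0, 5, 2, 2, 5, 0, 2, 1], .stab 16 false [6, 4, 2, 4, 2, 0, 4, 6, 0, 2, 4, 0, 3, 0, 3, 3, 1, 3, 3, 4], .stab 15 false [4, 4, 2, 1, 5, 1, 4, 6, 3, 3, 1, 3, 5, 5, 3, 5, 1, 2], .stab 15 false [2, 4, 0, 5, 2, 0, 4, 6, 0, 2, 2, 5, 1,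 5, 3, 1, 5, 0, 5], .stab 19 false [4, 7, 5, 0, 3, 0, 4, 6, 0, 3, 0, 2, 1, 4, 3, 0, 4, 0], .stab 15 false [1, 4, 2, 2, 5, 6, 4, 0, 2, 0, 5, 3, 1, 2, 5], .stab 15 false [4, 2, 5, 6, 3, 3, 0, 2, 2, 4, 2, 1, 4, 4, 3], .stab 15 true [1, 4, 2, 2, 5, 6, 4, 0, 2, 0, 5, 3, 1, 2, 5], .stab 15 true [4, 7, 5, 0, 3, 0, 4, 6, 0, 3, 0, 2, 1, 4, 3, 0, 4, 0], .stab 16 true [2, 1, 3, 5, 2, 4, 6, 2, 0, 2, 5, 2, 1, 2, 4, 2, 4], .stab 16 true [7, 3, 4, 2, 0, 4, 6, 3, 3, 5, 0, 5, 3, 0, 2, 1, 2, 2], .stab 19 true [5, 3, 5, 5, 2, 4, 6, 2, 2, 1, 3, 5, 0, 3, 1, 5, 1, 4], .stab 16 true [4, 1, 4, 3, 3, 1, 4, 6, 1, 3, 5, 1, 3, 3, 5, 1, 4], .step 22 [6, 5, 14, 6, 12, 10], .tok, .stab 15 false [4, 3, 0, 3, 5, 6, 0, 4, 2, 4, 2,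 0, 3, 3, 5, 3, 0], .stab 16 false [3, 4, 2, 1, 3, 1, 4, 6, 3, 1, 2, 1, 4, 0, 5, 5, 2, 2], .stab 19 false [1, 3, 4, 0, 5, 6, 2, 2, 4, 0, 5, 2, 1, 3, 5], .stab 16 false [3, 5, 0, 4, 6, 3, 1, 3, 5, 3, 4, 0], .stab 15 false [4, 6, 4, 6, 4, 0, 4, 6, 3, 3, 0, 2, 2, 4, 1, 4, 2, 0], .stab 15 false [6, 2, 4, 4, 1, 4, 6, 1, 3, 3, 4, 1, 3, 3, 5, 3, 5], .stab 19 false [1, 4, 0, 5, 6, 0, 3, 1, 4, 2, 4, 0, 2, 2, 5, 5], .stab 15 true [4, 2, 1, 4, 1, 4, 6, 2, 2, 4, 2, 4, 0, 2, 2, 5, 5], .stab 19 true [7, 2, 5, 5, 6, 0, 4, 6, 0, 3, 1, 2, 4, 0, 2, 2, 0, 4, 2], .stab 16 true [1, 4, 1, 4, 6, 5, 1, 4, 3, 5, 3, 1, 5, 1], .stab 19 true [1, 3, 4, 3, 3, 4, 6, 3, 4, 0, 3, 4, 1, 5, 2, 2], .stab 16 true [1, 2, 5, 2, 5, 6,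 2, 2, 0, 2, 2, 1, 2, 5, 0, 5, 2], .stab 15 true [3, 0, 5, 2, 5, 6, 2, 5, 2, 4, 4, 2, 0, 5], .stab 19 true [2, 0, 5, 7, 2, 4, 6, 3, 3, 4, 0, 3, 3, 1, 4, 4, 3, 4], .step 83 [4, 10, 12, 4, 14, 1], .tok])
  , (⟨4, [7, 4, 6, 0, 2, 0, 4, 6, 2, 5, 1, 5, 2, 4, 2, 2, 1, 4], true, 4, [1, 3, 5, 7, 0, 4, 6, 4, 2, 1, 2, 5, 0, 3, 0]⟩, .scan 11 4 [1, 3, 5, 7, 0, 4, 6, 4, 2, 1, 2, 5, 0, 3, 0] [.tok, .step 56 [8, 10, 12, 10, 14, 5, 13], .tok, .stab 15 false [1, 5, 1, 5, 0, 4, 6, 1, 3, 5, 3, 1, 3, 5, 1, 2, 1, 2, 2], .stab 16 false [1, 2, 0, 4, 2, 0, 4, 6, 1, 4, 1, 5, 0, 2, 1, 5, 1, 3], .stab 19 false [5, 3, 0, 2, 5, 6, 3, 0, 2, 4, 1, 3, 3, 4, 4, 2], .stab 16 false [2, 5, 0, 3, 0, 4, 6, 1, 4, 1, 4, 1, 5, 3, 5, 3,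 1], .stab 19 false [5, 2, 0, 3, 3, 5, 6, 2, 4, 0, 4, 3, 1, 4, 1, 3, 1], .stab 16 false [3, 5, 1, 5, 6, 1, 2, 4, 1, 5, 2, 0, 5, 3, 3], .stab 16 true [5, 2, 0, 3, 3, 5, 6, 2, 4, 0, 4, 3, 1, 4, 1, 3, 1], .stab 16 true [3, 4, 4, 0, 4, 6, 3, 4, 1, 3, 5, 3, 4, 3, 5], .stab 19 true [5, 2, 1, 5, 2, 2, 4, 6, 1, 1, 2, 5, 2, 2, 5, 3, 1, 3, 5], .stab 16 true [1, 5, 3, 5, 1, 4, 6, 2, 5, 3, 4, 2, 2, 4, 0, 3], .stab 19 true [3, 4, 7, 0, 4, 6, 3, 1, 3, 4, 3, 5, 2, 1], .stab 16 true [7, 0, 4, 0, 4, 6, 2, 0, 3, 1, 3, 3, 4, 0, 2, 4], .stab 15 true [7, 0, 2, 5, 2, 0, 4, 6, 2, 5, 5, 1, 2, 4], .stab 19 true [3, 1, 5, 7, 3, 4, 6, 3, 3, 1, 5, 3, 3, 0, 4, 3, 0], .stab 16 true [2, 2, 4, 7, 2, 4, 6, 2, 2, 1, 3, 4, 1, 5, 0,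 4, 4], .step 23 [3, 11, 15, 2, 13, 4], .tok, .stab 16 false [1, 5, 2, 5, 2, 4, 6, 3, 3, 5, 5, 1, 3, 5, 2, 2], .stab 19 false [3, 5, 3, 4, 2, 5, 6, 0, 3, 3, 0, 3, 4, 3, 3, 0, 5], .stab 16 false [5, 5, 1, 3, 0, 4, 6, 0, 4, 3, 1, 4, 3, 3, 1, 2, 1, 5], .stab 19 false [7, 3, 0, 4, 2, 0, 4, 6, 3, 5, 1, 2, 2, 1, 5, 2, 4, 1], .stab 16 false [2, 5, 3, 5, 1, 4, 6, 2, 2, 0, 4, 2, 4, 0, 3, 1, 4], .stab 15 false [6, 2, 5, 2, 4, 6, 0, 3, 0, 5, 5, 0, 3, 5, 1, 3, 3], .stab 19 false [7, 1, 4, 6, 1, 4, 0, 5, 2, 0, 4, 2, 5, 0], .stab 15 false [6, 4, 6, 0, 5, 3, 0, 2, 5, 1, 3, 4, 4], .stab 19 true [3, 4, 0, 4, 0, 4, 6, 5, 3, 0, 3, 3, 0, 3], .stab 15 true [4, 6, 4, 1, 5, 0, 4, 6, 0, 3, 1, 4, 1, 5, 3, 5, 1, 3], .stab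 16 true [0, 4, 0, 4, 0, 4, 6, 3, 1, 3, 3, 5, 3, 1, 5, 2], .stab 19 true [0, 4, 4, 7, 2, 4, 6, 5, 2, 5, 3, 5, 0, 3, 0], .stab 16 true [5, 5, 7, 2, 1, 4, 6, 3, 1, 4, 2, 5, 2, 0, 5, 3, 4], .stab 15 true [6, 4, 3, 4, 2, 0, 4, 6, 0, 2, 0, 5, 3, 5, 2, 0, 5, 2], .stab 15 true [7, 2, 5, 5, 1, 4, 6, 2, 0, 4, 1, 4, 0, 3, 1, 2, 1], .stab 19 true [4, 0, 4, 2, 5, 6, 1, 4, 0, 3, 5, 3, 0, 2, 4], .stab 15 true [5, 2, 4, 2, 1, 4, 6, 1, 5, 2, 5, 0, 5, 0, 2], .step 78 [12, 14, 6, 0, 12], .tok])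
  , (⟨4, [3, 5, 5, 2, 5, 6, 3, 1, 4, 3, 5, 3, 5, 1, 2, 1], true, 3, [5, 7, 2, 5, 0, 4, 6, 0, 4, 0, 5, 5, 2, 2, 0, 4, 2, 2]⟩, .scan 9 3 [5, 7, 2, 5, 0, 4, 6, 0, 4, 0, 5, 5, 2, 2, 0, 4, 2, 2] [.tok, .stab 46 false [1, 5, 6, 2, 2, 4, 6, 0, 3, 3, 4, 3, 0, 4, 4, 0, 3], .stab 46 false [3, 5, 2, 1, 5, 6, 0, 3, 4, 0, 3, 3, 0, 4, 3, 3, 5], .stab 51 false [1, 4, 1, 3, 4, 1, 4, 6, 3, 4, 2, 4, 3, 1, 2, 5, 0], .stab 51 false [4, 1, 2, 5, 0, 4, 6, 5, 0, 2, 1, 3, 3, 1, 2, 4, 0], .stab 51 false [5, 5, 7, 1, 2, 0, 4, 6, 0, 2, 2, 5, 2, 1, 2, 4, 1, 3, 5], .stab 46 false [1, 2, 5, 0, 5, 1, 4, 6, 2, 4, 1, 2, 4, 2, 1, 4, 4, 1], .stab 46 false [3, 5, 5, 2, 0, 4, 6, 0, 5, 1, 4, 1, 5, 2, 2, 1, 4], .stab 46 false [2, 0,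 4, 1, 4, 6, 0, 2, 5, 1, 4, 1, 2], .stab 46 false [0, 3, 5, 0, 3, 5, 6, 5, 0, 4, 2, 2, 0, 4, 3, 1, 2], .stab 51 false [6, 3, 1, 4, 4, 2, 1, 3, 4, 1], .stab 51 true [0, 3, 5, 0, 3, 5, 6, 5, 0, 4, 2, 2, 0, 4, 3, 1, 2], .stab 46 true [2, 0, 4, 1, 4, 6, 0, 2, 5, 1, 4, 1, 2], .stab 46 true [3, 5, 5, 2, 0, 4, 6, 0, 5, 1, 4, 1, 5, 2, 2, 1, 4], .stab 46 true [1, 2, 5, 0, 5, 1, 4, 6, 2, 4, 1, 2, 4, 2, 1, 4, 4, 1], .stab 46 true [5, 5, 7, 1, 2, 0, 4, 6, 0, 2, 2, 5, 2, 1, 2, 4, 1, 3, 5], .stab 51 true [4, 1, 2, 5, 0, 4, 6, 5, 0, 2, 1, 3, 3, 1, 2, 4, 0], .stab 51 true [1, 4, 1, 3, 4, 1, 4, 6, 3, 4, 2, 4, 3, 1, 2, 5, 0], .stab 51 true [3, 5, 2, 1, 5, 6, 0, 3, 4, 0, 3, 3, 0, 4, 3, 3, 5], .stab 46 true [1, 5, 6,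 2, 2, 4, 6, 0, 3, 3, 4, 3, 0, 4, 4, 0, 3], .stab 46 true [2, 4, 2, 4, 6, 0, 2, 4, 0, 3, 4, 3, 1, 2, 5, 0], .step 48 [12, 0, 14, 12, 10, 4, 13], .tok, .stab 15 false [7, 0, 4, 3, 3, 4, 6, 3, 0, 2, 1, 5, 1, 4, 2], .stab 16 false [7, 4, 3, 3, 4, 6, 0, 3, 0, 5, 5, 0, 4, 2], .stab 19 false [4, 3, 1, 4, 2, 4, 6, 0, 0, 3, 0, 5, 3, 3, 0, 3, 4, 1], .stab 16 false [2, 1, 4, 1, 4, 6, 3, 3, 5, 3, 3, 4, 0, 3], .stab 15 false [4, 0, 4, 1, 3, 4, 6, 0, 5, 1, 2, 4, 1, 1, 2, 4, 1], .stab 15 false [5, 6, 5, 6, 2, 0, 4, 6, 2, 1, 2, 4, 2, 1, 4, 2, 2, 5], .stab 19 false [4, 1, 5, 6, 0, 3, 5, 0, 3, 3, 4, 0, 4, 3, 4], .stab 19 true [5, 6, 5, 6, 2, 0, 4, 6, 2, 1, 2, 4, 2, 1, 4, 2, 2, 5], .stab 16 true [5, 1, 5, 3, 4, 6,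 5, 2, 4, 3, 4, 2, 1, 2, 5], .stab 16 true [5, 0, 4, 0, 3, 5, 6, 2, 0, 4, 3, 5, 1, 3, 5, 3, 1], .stab 16 true [0, 2, 4, 0, 4, 6, 3, 5, 2, 4, 0, 3, 4, 1, 2], .stab 19 true [6, 0, 4, 6, 2, 4, 6, 0, 2, 1, 5, 3, 4, 1, 4, 3, 4], .stab 16 true [6, 4, 6, 3, 4, 0, 4, 6, 3, 1, 3, 3, 5, 0, 4, 2, 5, 2], .stab 19 true [5, 1, 5, 2, 4, 6, 1, 1, 4, 3, 1, 5, 2, 1, 4], .stab 16 true [5, 0, 5, 0, 3, 5, 6, 5, 2, 4, 2, 0, 5, 2, 1, 3], .step 28 [11, 13, 7, 14, 0], .tok, .stab 16 false [4, 1, 4, 3, 0, 4, 6, 3, 4, 3, 4, 1, 4, 3, 1, 2, 1], .stab 19 false [1, 3, 1, 5, 1, 4, 6, 4, 0, 2, 5, 2, 1, 2, 2, 5, 5], .stab 19 false [6, 0, 5, 1, 4, 6, 0, 3, 0, 4, 3, 5, 1, 5, 2, 0, 3], .stab 19 false [6, 3, 0, 3, 5, 1, 4, 6, 4, 0, 2,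 5, 2, 1, 2, 2, 5, 5], .stab 15 false [3, 5, 3, 5, 2, 2, 4, 6, 2, 1, 5, 1, 4, 0, 2, 2, 1], .stab 16 false [6, 3, 5, 5, 0, 4, 6, 5, 2, 2, 0, 3, 5, 1, 2, 4, 2], .stab 19 false [5, 3, 0, 4, 6, 5, 2, 4, 4, 1, 3, 5, 3, 1], .stab 16 false [1, 3, 3, 5, 6, 2, 4, 2, 1, 2, 4, 0, 3, 1, 2, 5], .stab 15 false [3, 5, 6, 3, 1, 4, 2, 5, 2, 2, 4, 1, 3], .stab 19 true [1, 4, 7, 2, 4, 6, 0, 3, 1, 3, 5, 3, 4, 1, 3, 3, 1], .stab 19 true [6, 1, 2, 0, 4, 6, 3, 0, 5, 2, 1, 5, 2, 2, 4, 1, 5], .stab 19 true [2, 4, 4, 1, 2, 2, 4, 6, 2, 5, 2, 4, 0, 2, 0, 3, 1], .step 76 [0, 10, 13, 2, 15, 6, 13], .tok])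
  , (⟨3, [5, 7, 2, 5, 0, 4, 6, 0, 4, 0, 5, 5, 2, 2, 0, 4, 2, 2], true, 4, [3, 5, 5, 2, 5, 6, 3, 1, 4, 3, 5, 3, 5, 0, 2, 1]⟩, .scan 0 4 [3, 5, 5, 2, 5, 6, 3, 1, 4, 3, 5, 3, 5, 0, 2, 1] [.tok, .step 93 []])]

end Cfsg.Agent.Lib.CosetEnum.LyP.Dce
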